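import Groth.Prelude.Def_EtBase
import Mathlib.CategoryTheory.Sites.LocallySurjective
import Mathlib.CategoryTheory.Sites.Limits
import Mathlib.CategoryTheory.Abelian.Exact
import Mathlib.CategoryTheory.Sites.EpiMono

/-!
Small etale site: covering sieves pointwise, separatedness, local lifts along exact sequences.
-/

set_option autoImplicit false

universe u

open CategoryTheory CategoryTheory.Limits AlgebraicGeometry Opposite

noncomputable section

namespace Groth.Agent.EtFLC

variable {X : Scheme.{u}}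

/-- Restriction of sections. -/
abbrev res (F : EtCoh.Ab X) {U V : X.Etale} (g : V ⟶ U) : EtCoh.sect F U →+ EtCoh.sect F V :=
  (F.obj.map g.op).hom

theorem res_res (F : EtCoh.Ab X) {U V W : X.Etale} (h : W ⟶ V) (g : V ⟶ U) (s : EtCoh.sect F U) :
    res F h (res F g s) = res F (h ≫ g) s := by
  simp [res]

theorem res_id (F : EtCoh.Ab X) {U : X.Etale} (s : EtCoh.sect F U) : res F (𝟙 U) s = s := by
  simp [res]

theorem app_res {F G : EtCoh.Ab X} (φ : F ⟶ G) {U V : X.Etale} (g : V ⟶ U) (s : EtCoh.sect F U) :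
    (φ.hom.app (op V)).hom (res F g s) = res G g ((φ.hom.app (op U)).hom s) :=
  ConcreteCategory.congr_hom (φ.hom.naturality g.op) s

theorem comp_left_apply {U V W : X.Etale} (h : W ⟶ V) (g : V ⟶ U) (w : W.left) :
    (h ≫ g).left w = g.left (h.left w) := rfl

/-- A sieve is covering iff it reaches every point. -/
theorem mem_iff {W : X.Etale} (S : Sieve W) :
    S ∈ X.smallEtaleTopology W ↔ ∀ w : W.left, ∃ (Z : X.Etale) (g : Z ⟶ W) (z : Z.left), S g ∧ g.left z = w := by
  constructor
  · intro hS w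
    obtain ⟨𝒰, _, h, hle⟩ := (Scheme.mem_smallGrothendieckTopology _ _).1 hS
    obtain ⟨i, z, hz⟩ := 𝒰.exists_eq w
    exact ⟨_, _, z, hle _ _ (Presieve.ofArrows.mk i), hz⟩
  · intro h
    choose Z g z hS hz using h
    refine (X.smallEtaleTopology).superset_covering ?_
      ((Scheme.ofArrows_mem_smallEtaleTopology_iff g).2
        (Set.eq_univ_of_forall fun w => Set.mem_iUnion.2 ⟨w, z w, hz w⟩))
    rintro Y f ⟨Y', a, b, ⟨w⟩, rfl⟩
    exact S.downward_closed (hS w) a

/-- Sections agreeing near every point are equal. -/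
theorem sect_ext (F : EtCoh.Ab X) {V : X.Etale} {s t : EtCoh.sect F V}
    (h : ∀ v : V.left, ∃ (W : X.Etale) (g : W ⟶ V) (w : W.left), g.left w = v ∧ res F g s = res F g t) : s = t := by
  let S : Sieve V :=
    { arrows := fun W g => res F g s = res F g t
      downward_closed := fun {Y Z g} hg k => by rw [← res_res, hg, res_res] }
  have hS : S ∈ X.smallEtaleTopology V := (mem_iff S).2 fun v => by
    obtain ⟨W, g, w, hw, hg⟩ := h v
    exact ⟨W, g, w, hg, hw⟩
  exact (((isSheaf_iff_isSheaf_of_type _ _).1 (Presheaf.isSheaf_comp_of_isSheaf X.smallEtaleTopology F.obj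
    (forget AddCommGrpCat) F.property)).isSeparated S hS).ext fun Y g hg => hg

/-- An epimorphism of sheaves is locally surjective. -/
theorem exists_lift_of_epi {F G : EtCoh.Ab X} (φ : F ⟶ G) [Epi φ] {V : X.Etale} (s : EtCoh.sect G V) (v : V.left) :
    ∃ (W : X.Etale) (g : W ⟶ V) (w : W.left) (t : EtCoh.sect F W),
      g.left w = v ∧ (φ.hom.app (op W)).hom t = res G g s := by
  haveI : Sheaf.IsLocallySurjective φ := (Sheaf.isLocallySurjective_iff_epi' _ φ).2 inferInstance
  obtain ⟨W, g, w, ⟨t, ht⟩, hw⟩ := (mem_iff _).1 (Presheaf.imageSieve_mem X.smallEtaleTopology φ.hom s) v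
  exact ⟨W, g, w, t, hw, ht⟩

/-- Sections of kernels. -/
theorem exists_kernel_sect {F G : EtCoh.Ab X} (φ : F ⟶ G) {V : X.Etale} (s : EtCoh.sect F V)
    (hs : (φ.hom.app (op V)).hom s = 0) :
    ∃ t : EtCoh.sect (kernel φ) V, ((kernel.ι φ).hom.app (op V)).hom t = s := by
  let E : EtCoh.Ab X ⥤ AddCommGrpCat.{u + 1} :=
    sheafToPresheaf X.smallEtaleTopology AddCommGrpCat.{u + 1} ⋙ (evaluation _ _).obj (op V)
  haveI : PreservesLimitsOfShape WalkingParallelPair E := by
    haveI : PreservesLimitsOfShape WalkingParallelPair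
        (sheafToPresheaf X.smallEtaleTopology AddCommGrpCat.{u + 1}) := inferInstance
    exact comp_preservesLimitsOfShape _ _
  haveI : E.PreservesZeroMorphisms := ⟨fun _ _ => rfl⟩
  let e : E.obj (kernel φ) ≅ kernel (E.map φ) := PreservesKernel.iso E φ
  let t0 : (kernel (E.map φ) : AddCommGrpCat.{u + 1}) := (AddCommGrpCat.kernelIsoKer (E.map φ)).inv ⟨s, hs⟩
  refine ⟨e.inv t0, ?_⟩
  have h1 : e.inv ≫ E.map (kernel.ι φ) = kernel.ι (E.map φ) := by
    rw [Iso.inv_comp_eq]; simpa [e] using (kernelComparison_comp_ι φ E).symm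
  calc E.map (kernel.ι φ) (e.inv t0) = kernel.ι (E.map φ) t0 := ConcreteCategory.congr_hom h1 t0
    _ = s := by
      have h2 := ConcreteCategory.congr_hom (AddCommGrpCat.kernelIsoKer_inv_comp_ι (E.map φ)) ⟨s, hs⟩
      exact h2

/-- Sections of monomorphisms are injective. -/
theorem app_injective {F G : EtCoh.Ab X} (φ : F ⟶ G) [Mono φ] (V : X.Etale) :
    Function.Injective (φ.hom.app (op V)).hom := by
  haveI : Mono φ.hom := (sheafToPresheaf X.smallEtaleTopology AddCommGrpCat.{u + 1}).map_mono φ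
  haveI : Mono (φ.hom.app (op V)) := inferInstance
  exact (AddCommGrpCat.mono_iff_injective _).1 inferInstance

/-- Exactness gives local lifts. -/
theorem exists_lift_of_exact {S : ShortComplex (EtCoh.Ab X)} (hS : S.Exact) {V : X.Etale}
    (s : EtCoh.sect S.X₂ V) (hs : (S.g.hom.app (op V)).hom s = 0) (v : V.left) :
    ∃ (W : X.Etale) (g : W ⟶ V) (w : W.left) (t : EtCoh.sect S.X₁ W),
      g.left w = v ∧ (S.f.hom.app (op W)).hom t = res S.X₂ g s := by
  haveI : Epi (kernel.lift S.g S.f S.zero) := hS.epi_kernelLift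
  obtain ⟨k, hk⟩ := exists_kernel_sect S.g s hs
  obtain ⟨W, g, w, t, hw, ht⟩ := exists_lift_of_epi (kernel.lift S.g S.f S.zero) k v
  refine ⟨W, g, w, t, hw, ?_⟩
  rw [← hk, ← app_res, ← ht]
  exact (ConcreteCategory.congr_hom (congrArg (fun φ => φ.hom.app (op W)) (kernel.lift_ι S.g S.f S.zero)) t).symm

end Groth.Agent.EtFLC
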