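import Groth.Agent.EtFLC.Triv

/-!
Finite locally constant sheaves: maps are locally constant; kernels, cokernels, extensions.
-/

set_option autoImplicit false

universe u

open CategoryTheory CategoryTheory.Limits AlgebraicGeometry Opposite

noncomputable section

namespace Groth.Agent.EtFLC

variable {X : Scheme.{u}}

/-- Simultaneous refinement around a point for finitely many properties stable under restriction. -/
theorem exists_refine {ι : Type*} (t : Finset ι) {U : X.Etale} (u₀ : U.left)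
    (P : ι → ∀ V : X.Etale, (V ⟶ U) → Prop)
    (hmono : ∀ i (V : X.Etale) (g : V ⟶ U), P i V g → ∀ (W : X.Etale) (k : W ⟶ V), P i W (k ≫ g))
    (hloc : ∀ i ∈ t, ∀ (V : X.Etale) (g : V ⟶ U) (v : V.left),
      ∃ (W : X.Etale) (k : W ⟶ V) (w : W.left), k.left w = v ∧ P i W (k ≫ g)) :
    ∃ (V : X.Etale) (g : V ⟶ U) (v : V.left), g.left v = u₀ ∧ ∀ i ∈ t, P i V g := by
  induction t using Finset.cons_induction with
  | empty => exact ⟨U, 𝟙 U, u₀, rfl, by simp⟩
  | cons a t _ ih =>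
    obtain ⟨V, g, v, hv, hV⟩ := ih fun i hi => hloc i (Finset.mem_cons_of_mem hi)
    obtain ⟨W, k, w, hw, hW⟩ := hloc a (Finset.mem_cons_self _ _) V g v
    refine ⟨W, k ≫ g, w, ?_, fun i hi => ?_⟩
    · rw [comp_left_apply, hw, hv]
    · rcases Finset.mem_cons.1 hi with rfl | hi
      · exact hW
      · exact hmono i V g (hV i hi) W k

theorem IsTriv.injective {F : EtCoh.Ab X} {U : X.Etale} {M : Type*} [AddCommGroup M] {σ : M →+ EtCoh.sect F U}
    (h : IsTriv F U σ) {V : X.Etale} (g : V ⟶ U) (v : V.left) : Function.Injective ((res F g).comp σ) :=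
  (injective_iff_map_eq_zero _).2 fun m hm => h.inj g m hm v

/-- A map from a finite constant sheaf to a constant sheaf is locally induced by a homomorphism. -/
theorem exists_local_hom {F G : EtCoh.Ab X} (φ : F ⟶ G) {U : X.Etale} {M N : Type*} [AddCommGroup M]
    [Finite M] [AddCommGroup N] {σ : M →+ EtCoh.sect F U} {τ : N →+ EtCoh.sect G U} (hτ : IsTriv G U τ) (u₀ : U.left) :
    ∃ (V : X.Etale) (g : V ⟶ U) (v : V.left) (f : M →+ N), g.left v = u₀ ∧
      ∀ m, (φ.hom.app (op V)).hom (res F g (σ m)) = res G g (τ (f m)) := by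
  classical
  cases nonempty_fintype M
  obtain ⟨V, g, v, hv, hP⟩ := exists_refine Finset.univ u₀
    (fun m V g => ∃ n, (φ.hom.app (op V)).hom (res F g (σ m)) = res G g (τ n))
    (fun m V g ⟨n, hn⟩ W k => ⟨n, by rw [← res_res, app_res, hn, res_res]⟩)
    (fun m _ V g v => by
      obtain ⟨W, k, w, n, hw, hn⟩ := hτ.surj g ((φ.hom.app (op V)).hom (res F g (σ m))) v
      exact ⟨W, k, w, hw, n, by rw [← res_res, app_res, hn]⟩)
  choose n hn using fun m => hP m (Finset.mem_univ m)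
  refine ⟨V, g, v, AddMonoidHom.mk' n fun a b => ?_, hv, hn⟩
  refine hτ.injective g v ?_
  simp only [AddMonoidHom.comp_apply, map_add, ← hn]

/-- Trivialisations of two sheaves at the same point can be moved to a common object. -/
theorem exists_common {U₁ U₂ : X.Etale} (u₁ : U₁.left) (u₂ : U₂.left) (h : U₁.hom u₁ = U₂.hom u₂) :
    ∃ (W : X.Etale) (g₁ : W ⟶ U₁) (g₂ : W ⟶ U₂) (w : W.left), g₁.left w = u₁ ∧ g₂.left w = u₂ := by
  obtain ⟨w, hw₁, hw₂⟩ := Scheme.Pullback.exists_preimage_pullback u₁ u₂ h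
  let f : Limits.pullback U₁.hom U₂.hom ⟶ X := Limits.pullback.fst U₁.hom U₂.hom ≫ U₁.hom
  haveI : Etale U₁.hom := U₁.prop
  haveI : Etale U₂.hom := U₂.prop
  haveI : Etale f := by infer_instance
  exact ⟨Scheme.Etale.mk f, MorphismProperty.Over.homMk (Limits.pullback.fst U₁.hom U₂.hom) rfl,
    MorphismProperty.Over.homMk (Limits.pullback.snd U₁.hom U₂.hom) Limits.pullback.condition.symm, w, hw₁, hw₂⟩

theorem hom_comp_left {V U : X.Etale} (g : V ⟶ U) (v : V.left) : U.hom (g.left v) = V.hom v := by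
  rw [← Scheme.Hom.comp_apply, MorphismProperty.Over.w]

/-- Kernels. -/
theorem isFLC_kernel {F G : EtCoh.Ab X} (φ : F ⟶ G) (hF : EtCoh.IsFiniteLocallyConstant F)
    (hG : EtCoh.IsFiniteLocallyConstant G) : EtCoh.IsFiniteLocallyConstant (kernel φ) := by
  rw [isFLC_iff] at hF hG ⊢
  intro x
  obtain ⟨U₁, u₁, M, _, _, σ₀, hu₁, hσ₀⟩ := hF x
  obtain ⟨U₂, u₂, N, _, _, τ₀, hu₂, hτ₀⟩ := hG x
  obtain ⟨U, g₁, g₂, u₀, hg₁, -⟩ := exists_common u₁ u₂ (hu₁.trans hu₂.symm)
  obtain ⟨V, g, v, f, hv, hf⟩ := exists_local_hom φ (σ := (res F g₁).comp σ₀) (hτ₀.comap g₂) u₀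
  set σ := (res F g).comp ((res F g₁).comp σ₀) with hσdef
  have hσ : IsTriv F V σ := (hσ₀.comap g₁).comap g
  have hτ := (hτ₀.comap g₂).comap g
  have hlift : ∀ m : f.ker, ∃ t, ((kernel.ι φ).hom.app (op V)).hom t = σ m := fun m =>
    exists_kernel_sect φ _ (by rw [hσdef, AddMonoidHom.comp_apply, hf, show f m = 0 from m.2, map_zero, map_zero])
  choose t ht using hlift
  have hadd : ∀ a b, t (a + b) = t a + t b := fun a b => app_injective (kernel.ι φ) V (by
    rw [map_add, ht, ht, ht, AddSubgroup.coe_add, map_add])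
  refine ⟨V, v, f.ker, inferInstance, inferInstance, AddMonoidHom.mk' t hadd,
    by rw [← hu₁, ← hg₁, hom_comp_left, ← hv, hom_comp_left], ⟨fun {W} k s w => ?_, fun {W} k m hm w => ?_⟩⟩
  · obtain ⟨Z, l, z, m, hz, hm⟩ := hσ.surj k (((kernel.ι φ).hom.app (op W)).hom s) w
    have hker : f m = 0 := by
      refine hτ.inj (l ≫ k) (f m) ?_ z
      have h0 : (φ.hom.app (op W)).hom (((kernel.ι φ).hom.app (op W)).hom s) = 0 :=
        ConcreteCategory.congr_hom (congrArg (fun ψ => ψ.hom.app (op W)) (kernel.condition φ)) s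
      have h1 := congrArg ((φ.hom.app (op Z)).hom) hm
      rw [app_res, h0, map_zero, hσdef, AddMonoidHom.comp_apply, app_res, hf] at h1
      exact h1.symm
    refine ⟨Z, l, z, ⟨m, hker⟩, hz, app_injective (kernel.ι φ) Z ?_⟩
    rw [app_res, app_res, hm]
    exact congrArg _ (ht ⟨m, hker⟩).symm
  · have h1 := congrArg (((kernel.ι φ).hom.app (op W)).hom) hm
    rw [app_res, map_zero] at h1
    exact Subtype.ext (hσ.inj k m ((congrArg (res F k) (ht m).symm).trans h1) w)

/-- Cokernels. -/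
theorem isFLC_cokernel {F G : EtCoh.Ab X} (φ : F ⟶ G) (hF : EtCoh.IsFiniteLocallyConstant F)
    (hG : EtCoh.IsFiniteLocallyConstant G) : EtCoh.IsFiniteLocallyConstant (cokernel φ) := by
  rw [isFLC_iff] at hF hG ⊢
  intro x
  obtain ⟨U₁, u₁, M, _, _, σ₀, hu₁, hσ₀⟩ := hF x
  obtain ⟨U₂, u₂, N, _, _, τ₀, hu₂, hτ₀⟩ := hG x
  obtain ⟨U, g₁, g₂, u₀, hg₁, -⟩ := exists_common u₁ u₂ (hu₁.trans hu₂.symm)
  obtain ⟨V, g, v, f, hv, hf⟩ := exists_local_hom φ (σ := (res F g₁).comp σ₀) (hτ₀.comap g₂) u₀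
  set τ := (res G g).comp ((res G g₂).comp τ₀) with hτdef
  have hτ : IsTriv G V τ := (hτ₀.comap g₂).comap g
  set σ := (res F g).comp ((res F g₁).comp σ₀)
  have hσ : IsTriv F V σ := (hσ₀.comap g₁).comap g
  have hf' : ∀ m, (φ.hom.app (op V)).hom (σ m) = τ (f m) := hf
  let π := cokernel.π φ
  have hπφ : ∀ (W : X.Etale) (s : EtCoh.sect F W), (π.hom.app (op W)).hom ((φ.hom.app (op W)).hom s) = 0 :=
    fun W s => ConcreteCategory.congr_hom (congrArg (fun ψ => ψ.hom.app (op W)) (cokernel.condition φ)) s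
  let q : N →+ EtCoh.sect (cokernel φ) V := ((π.hom.app (op V)).hom).comp τ
  have hq : f.range ≤ q.ker := by
    rintro _ ⟨m, rfl⟩
    change (π.hom.app (op V)).hom (τ (f m)) = 0
    rw [← hf', hπφ]
  refine ⟨V, v, N ⧸ f.range, inferInstance, inferInstance, QuotientAddGroup.lift _ q hq,
    by rw [← hu₁, ← hg₁, hom_comp_left, ← hv, hom_comp_left], ⟨fun {W} k s w => ?_, fun {W} k n => ?_⟩⟩
  · obtain ⟨Z, l, z, s', hz, hs'⟩ := exists_lift_of_epi π s w
    obtain ⟨Z', l', z', n, hz', hn⟩ := hτ.surj (l ≫ k) s' z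
    refine ⟨Z', l' ≫ l, z', n, by rw [comp_left_apply, hz', hz], ?_⟩
    rw [← res_res, ← hs', ← app_res, hn, app_res, Category.assoc]
    rfl
  · induction n using QuotientAddGroup.induction_on with
    | H n =>
    intro hn w
    rw [QuotientAddGroup.eq_zero_iff]
    have h0 : (π.hom.app (op W)).hom (res G k (τ n)) = 0 := by rw [app_res]; exact hn
    obtain ⟨Z, l, z, s, hz, hs⟩ := exists_lift_of_exact
      (S := ShortComplex.mk φ π (cokernel.condition φ)) (ShortComplex.exact_of_g_is_cokernel _ (cokernelIsCokernel φ)) _ h0 w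
    obtain ⟨Z', l', z', m, hz', hm⟩ := hσ.surj (l ≫ k) s z
    refine ⟨m, eq_of_sub_eq_zero ?_⟩
    refine hτ.inj (l' ≫ l ≫ k) _ ?_ z'
    have hs' := congrArg (res G l') hs
    change res G l' ((φ.hom.app (op Z)).hom s) = _ at hs'
    rw [res_res, res_res, ← app_res, hm, app_res, hf', Category.assoc] at hs'
    rw [map_sub, map_sub, sub_eq_zero]
    exact hs'

/-- Extensions. -/
theorem isFLC_of_shortExact {S : ShortComplex (EtCoh.Ab X)} (hS : S.ShortExact)
    (h₁ : EtCoh.IsFiniteLocallyConstant S.X₁) (h₃ : EtCoh.IsFiniteLocallyConstant S.X₃) :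
    EtCoh.IsFiniteLocallyConstant S.X₂ := by
  classical
  haveI := hS.mono_f
  haveI := hS.epi_g
  rw [isFLC_iff] at h₁ h₃ ⊢
  intro x
  obtain ⟨U₁, u₁, M, _, _, σ₀, hu₁, hσ₀⟩ := h₁ x
  obtain ⟨U₂, u₂, N, _, _, τ₀, hu₂, hτ₀⟩ := h₃ x
  obtain ⟨U, g₁, g₂, u₀, hg₁, -⟩ := exists_common u₁ u₂ (hu₁.trans hu₂.symm)
  have hσ₁ := hσ₀.comap g₁
  have hτ₁ := hτ₀.comap g₂
  set σ₁ := (res S.X₁ g₁).comp σ₀
  set τ₁ := (res S.X₃ g₂).comp τ₀
  cases nonempty_fintype N
  obtain ⟨V, g, v, hv, hP⟩ := exists_refine Finset.univ u₀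
    (fun n V g => ∃ e, (S.g.hom.app (op V)).hom e = res S.X₃ g (τ₁ n))
    (fun n V g ⟨e, he⟩ W k => ⟨res S.X₂ k e, by rw [app_res, he, res_res]⟩)
    (fun n _ V g v => by
      obtain ⟨W, k, w, e, hw, he⟩ := exists_lift_of_epi S.g (res S.X₃ g (τ₁ n)) v
      exact ⟨W, k, w, hw, e, by rw [he, res_res]⟩)
  choose e he using fun n => hP n (Finset.mem_univ n)
  obtain ⟨V', g', v', hv', hQ⟩ := exists_refine (Finset.univ : Finset (N × N)) v
    (fun p V' g' => ∃ m, (S.f.hom.app (op V')).hom (res S.X₁ g' (res S.X₁ g (σ₁ m))) =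
      res S.X₂ g' (e p.1 + e p.2 - e (p.1 + p.2)))
    (fun p V g ⟨m, hm⟩ W k => ⟨m, by rw [← res_res, app_res, hm, res_res]⟩)
    (fun p _ W k w => by
      have h0 : (S.g.hom.app (op W)).hom (res S.X₂ k (e p.1 + e p.2 - e (p.1 + p.2))) = 0 := by
        rw [app_res, map_sub, map_add, he, he, he, map_add, map_add, sub_self, map_zero]
      obtain ⟨Z, l, z, t, hz, ht⟩ := exists_lift_of_exact hS.exact _ h0 w
      obtain ⟨Z', l', z', m, hz', hm⟩ := hσ₁.surj (l ≫ k ≫ g) t z
      refine ⟨Z', l' ≫ l, z', by rw [comp_left_apply, hz', hz], m, ?_⟩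
      have ht' := congrArg (res S.X₂ l') ht
      rw [← app_res, hm, res_res, res_res] at ht'
      rw [res_res]
      simpa only [Category.assoc] using ht')
  choose c hc using fun p => hQ p (Finset.mem_univ p)
  let σ := (res S.X₁ g').comp ((res S.X₁ g).comp σ₁)
  let τ := (res S.X₃ g').comp ((res S.X₃ g).comp τ₁)
  have hσ : IsTriv S.X₁ V' σ := (hσ₁.comap g).comap g'
  have hτ : IsTriv S.X₃ V' τ := (hτ₁.comap g).comap g'
  let E : N → EtCoh.sect S.X₂ V' := fun n => res S.X₂ g' (e n)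
  have hE : ∀ n, (S.g.hom.app (op V')).hom (E n) = τ n := fun n => by
    change (S.g.hom.app (op V')).hom (res S.X₂ g' (e n)) = _
    rw [app_res, he]; rfl
  let i : M →+ EtCoh.sect S.X₂ V' := ((S.f.hom.app (op V')).hom).comp σ
  have hadd : ∀ a b : N, E a + E b = i (c (a, b)) + E (a + b) := fun a b => by
    have h := hc (a, b)
    rw [map_sub, map_add] at h
    change _ = (S.f.hom.app (op V')).hom (res S.X₁ g' (res S.X₁ g (σ₁ (c (a, b))))) + _
    rw [h]; exact (sub_add_cancel _ _).symm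
  have hE0 : E 0 = i (c (0, 0)) := by
    have h := hadd 0 0
    rw [add_zero] at h
    exact add_right_cancel h
  let G : AddSubgroup (EtCoh.sect S.X₂ V') :=
    { carrier := Set.range fun p : M × N => i p.1 + E p.2
      zero_mem' := ⟨(-c (0, 0), 0), by simp [hE0]⟩
      add_mem' := by
        rintro _ _ ⟨⟨a, n⟩, rfl⟩ ⟨⟨b, n'⟩, rfl⟩
        exact ⟨(a + b + c (n, n'), n + n'), by
          simp only [map_add]
          rw [add_add_add_comm (i a), hadd]; abel⟩
      neg_mem' := by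
        rintro _ ⟨⟨a, n⟩, rfl⟩
        refine ⟨(-a - c (n, -n) - c (0, 0), -n), eq_neg_of_add_eq_zero_left ?_⟩
        simp only [map_sub, map_neg]
        have h := hadd n (-n)
        rw [add_neg_cancel, hE0] at h
        calc -i a - i (c (n, -n)) - i (c (0, 0)) + E (-n) + (i a + E n)
            = (E n + E (-n)) - (i (c (n, -n)) + i (c (0, 0))) := by abel
          _ = 0 := by rw [h, sub_self] }
  haveI : Finite G :=
    Finite.of_surjective (fun p : M × N => (⟨i p.1 + E p.2, p, rfl⟩ : G)) (by rintro ⟨_, p, rfl⟩; exact ⟨p, rfl⟩)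
  let GS := Shrink.{0} G
  have hG : IsTriv S.X₂ V' G.subtype := by
    refine ⟨fun {W} k s w => ?_, fun {W} k p hm w => ?_⟩
    · obtain ⟨Z, l, z, n, hz, hn⟩ := hτ.surj k ((S.g.hom.app (op W)).hom s) w
      have h0 : (S.g.hom.app (op Z)).hom (res S.X₂ l s - res S.X₂ (l ≫ k) (E n)) = 0 := by
        rw [map_sub, app_res, app_res, hE, hn, sub_self]
      obtain ⟨Z', l', z', t, hz', ht⟩ := exists_lift_of_exact hS.exact _ h0 z
      obtain ⟨Z'', l'', z'', m, hz'', hm⟩ := hσ.surj (l' ≫ l ≫ k) t z'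
      refine ⟨Z'', l'' ≫ l' ≫ l, z'', ⟨i m + E n, (m, n), rfl⟩,
        by rw [comp_left_apply, comp_left_apply, hz'', hz', hz], ?_⟩
      have ht' := congrArg (res S.X₂ l'') ht
      rw [← app_res, hm, map_sub, map_sub, app_res, res_res, res_res, res_res, res_res] at ht'
      change _ = res S.X₂ _ (i m + E n)
      rw [map_add]
      simp only [Category.assoc] at ht' ⊢
      change _ = res S.X₂ _ ((S.f.hom.app (op V')).hom (σ m)) + _
      rw [ht', sub_add_cancel]
    · obtain ⟨_, ⟨m, n⟩, rfl⟩ := p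
      change res S.X₂ k (i m + E n) = 0 at hm
      have h1 := congrArg ((S.g.hom.app (op W)).hom) hm
      rw [map_add, map_add, app_res, app_res, hE, map_zero] at h1
      have hgf : (S.g.hom.app (op V')).hom (i m) = 0 :=
        ConcreteCategory.congr_hom (congrArg (fun ψ => ψ.hom.app (op V')) S.zero) (σ m)
      rw [hgf, map_zero, zero_add] at h1
      obtain rfl : n = 0 := hτ.inj k n h1 w
      rw [hE0, ← map_add i] at hm
      have h2 : (S.f.hom.app (op W)).hom (res S.X₁ k (σ (m + c (0, 0)))) = (S.f.hom.app (op W)).hom 0 := by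
        rw [app_res, map_zero]; exact hm
      have h3 := hσ.inj k _ (app_injective S.f W h2) w
      exact Subtype.ext (show i m + E 0 = 0 by rw [hE0, ← map_add, h3, map_zero])
  refine ⟨V', v', GS, inferInstance, inferInstance, _, ?_, hG.congr (Shrink.addEquiv.{0} (α := G))⟩
  rw [← hu₁, ← hg₁, hom_comp_left, ← hv, hom_comp_left, ← hv', hom_comp_left]

end Groth.Agent.EtFLC
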