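import Groth.Agent.EtFLC.PushFin
import Mathlib.AlgebraicGeometry.Morphisms.FlatRank

/-!
Finite etale morphisms are etale locally split; pushforward of FLC sheaves.
-/

set_option autoImplicit false
set_option backward.isDefEq.respectTransparency false

universe u

open CategoryTheory CategoryTheory.Limits AlgebraicGeometry Opposite
open Groth.Agent.FEtRank Groth.Agent.FEtGal

noncomputable section

namespace Groth.Agent.EtFLC

variable {X Y : Scheme.{u}} (f : X ⟶ Y) [IsFinite f] [AlgebraicGeometry.Etale f]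

/-- Locally at a point of the base a finite etale morphism splits. -/
theorem exists_split_nhd (y : Y) :
    ∃ (V : Y.Etale) (v : V.left) (n : ℕ) (e : ((EtCoh.bc f).obj V).left ≅ ∐ fun _ : Fin n => V.left),
      V.hom v = y ∧ ∀ i, Sigma.ι (fun _ : Fin n => V.left) i ≫ e.inv ≫ pullback.fst V.hom f = 𝟙 V.left := by
  classical
  let n := f.finrank y
  let U : Y.Opens := ⟨{z | f.finrank z = n}, f.isLocallyConstant_finrank.isOpen_fiber n⟩
  let Xc : FEt.Cat U := MorphismProperty.Over.mk ⊤ (pullback.snd f U.ι)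
    ⟨MorphismProperty.pullback_snd f U.ι ‹IsFinite f›, MorphismProperty.pullback_snd f U.ι ‹Etale f›⟩
  have hdeg : ∀ (Ω : Type u) [Field Ω] [IsAlgClosed Ω] (ξ : Spec (CommRingCat.of Ω) ⟶ U.toScheme),
      Nat.card (FEt.fiberObj ξ Xc) = n := fun Ω _ _ ξ => by
    rw [natCard_fiber]
    exact (Scheme.Hom.finrank_pullback_snd f U.ι _).trans (ξ (pt₀ Ω)).2
  obtain ⟨T, s, hT, hs⟩ := exists_split n Xc hdeg
  obtain ⟨e, he⟩ := exists_coprod_iso s (isIso_of_forall_bijective _ fun Ω _ _ ξ =>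
    bijective_desc s ξ (hs Ω ξ))
  haveI : AlgebraicGeometry.Etale (str T) := etale_str T
  haveI : AlgebraicGeometry.Etale (str T ≫ U.ι) := inferInstance
  let V : Y.Etale := Scheme.Etale.mk (str T ≫ U.ι)
  obtain ⟨Ω, _, _, ξ, hξ⟩ := exists_geomPt (X := U.toScheme) ⟨y, rfl⟩
  have hne : Nat.card (FEt.fiberObj ξ T) ≠ 0 := by rw [hT]; exact Nat.factorial_ne_zero _
  obtain ⟨t, ht⟩ := (Nat.card_ne_zero.1 hne).1
  let ψ : ((EtCoh.bc f).obj V).left ≅ pullback (pullback.snd f U.ι) (str T) :=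
    pullbackSymmetry _ _ ≪≫ (pullbackLeftPullbackSndIso f U.ι (str T)).symm
  refine ⟨V, t (pt₀ Ω), n, ψ ≪≫ e, ?_, fun i => ?_⟩
  · change (str T ≫ U.ι) (t (pt₀ Ω)) = y
    have h1 : (str T) (t (pt₀ Ω)) = (⟨y, rfl⟩ : U) :=
      ((Scheme.Hom.comp_apply t (str T) (pt₀ Ω)).symm.trans (by rw [show t ≫ str T = ξ from ht])).trans hξ
    exact ((Scheme.Hom.comp_apply (str T) U.ι _).trans (congrArg U.ι.base h1)).trans rfl
  · have h2 : (s i).left ≫ pullback.snd (pullback.snd f U.ι) (str T) = 𝟙 T.left := MorphismProperty.Over.w (s i)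
    have hψ : ψ.inv ≫ pullback.fst V.hom f = pullback.snd (pullback.snd f U.ι) (str T) :=
      (Category.assoc _ _ _).trans ((congrArg ((pullbackLeftPullbackSndIso f U.ι (str T)).hom ≫ ·)
        (pullbackSymmetry_inv_comp_fst (V.hom) f)).trans (pullbackLeftPullbackSndIso_hom_snd f U.ι (str T)))
    refine Eq.trans ?_ h2
    rw [← he i, Category.assoc, ← hψ]
    simp only [Iso.trans_inv, Category.assoc]
    rfl

theorem isFLC_push [EtCoh.BCCont f] {F : EtCoh.Ab X} (h : EtCoh.IsFiniteLocallyConstant F) :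
    EtCoh.IsFiniteLocallyConstant ((EtCoh.push f).obj F) := by
  classical
  rw [isFLC_iff] at h ⊢
  intro y
  obtain ⟨V₀, v₀, n, e, hv₀, he⟩ := exists_split_nhd f y
  let a₀ : Fin n → (V₀.left ⟶ X) := fun i => Sigma.ι (fun _ : Fin n => V₀.left) i ≫ e.inv ≫ pullback.snd V₀.hom f
  have ha₀ : ∀ i, a₀ i ≫ f = V₀.hom := fun i => by
    have h1 := congrArg (· ≫ V₀.hom) (he i)
    simp only [Category.assoc, Category.id_comp] at h1
    simp only [a₀, Category.assoc, ← pullback.condition]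
    exact h1
  haveI : ∀ i, AlgebraicGeometry.Etale (a₀ i) := fun i => by
    haveI : AlgebraicGeometry.Etale (a₀ i ≫ f) := by rw [ha₀]; exact V₀.prop
    exact MorphismProperty.of_postcomp @AlgebraicGeometry.Etale (a₀ i) f ‹Etale f› ‹_›
  have hpm : ∀ i, (pieceMap f (a₀ i) (ha₀ i) (𝟙 V₀)).left = Sigma.ι (fun _ : Fin n => V₀.left) i ≫ e.inv := fun i =>
    pullback.hom_ext ((pieceMap_fst f (a₀ i) (ha₀ i) _).trans (by rw [Category.assoc]; exact (he i).symm))
      ((pieceMap_snd f (a₀ i) (ha₀ i) _).trans ((Category.id_comp _).trans (Category.assoc _ _ _).symm))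
  have hd : ∀ i j, i ≠ j → ∀ x y, (pieceMap f (a₀ i) (ha₀ i) (𝟙 V₀)).left x ≠
      (pieceMap f (a₀ j) (ha₀ j) (𝟙 V₀)).left y := fun i j hij x y hxy => by
    rw [hpm, hpm] at hxy
    exact hij (congrArg Sigma.fst ((AlgebraicGeometry.sigmaι_eq_iff (fun _ : Fin n => V₀.left) i j x y).1
      (e.inv.homeomorph.injective hxy)))
  have hc : ∀ p, ∃ i, p ∈ Set.range (pieceMap f (a₀ i) (ha₀ i) (𝟙 V₀)).left := fun p => by
    obtain ⟨q, hq⟩ := e.inv.homeomorph.surjective p
    obtain ⟨i, x, hx⟩ := (AlgebraicGeometry.sigmaOpenCover (fun _ : Fin n => V₀.left)).exists_eq q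
    exact ⟨i, x, ((congrArg (fun m => m.base x) (hpm i)).trans (congrArg e.inv.base hx)).trans hq⟩
  -- refine so that every piece trivialises `F`
  obtain ⟨V, g, v, hv, hP⟩ := exists_refine (Finset.univ : Finset (Fin n)) v₀
    (fun i V g => ∃ (M : Type) (_ : AddCommGroup M) (_ : Finite M) (σ : M →+ EtCoh.sect F (piece (a₀ i) g)),
      IsTriv F (piece (a₀ i) g) σ)
    (fun i V g ⟨M, _, _, σ, hσ⟩ W k => ⟨M, inferInstance, inferInstance, _, hσ.comap (pieceRes (a₀ i) g k)⟩)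
    (fun i _ W g w => by
      haveI := Groth.Agent.EtSect.etale_left g
      obtain ⟨U₁, u₁, M, _, _, σ, hu, hσ⟩ := h ((piece (a₀ i) g).hom w)
      obtain ⟨H, g₁, g₂, z, hg₁, -⟩ := exists_common (U₁ := piece (a₀ i) g) w u₁ hu.symm
      haveI : AlgebraicGeometry.Etale (g₁.left : H.left ⟶ W.left) := Groth.Agent.EtSect.etale_left g₁
      haveI : AlgebraicGeometry.Etale W.hom := W.prop
      haveI : AlgebraicGeometry.Etale ((g₁.left : H.left ⟶ W.left) ≫ W.hom) := inferInstance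
      let H' : Y.Etale := Scheme.Etale.mk ((g₁.left : H.left ⟶ W.left) ≫ W.hom)
      let l : H' ⟶ W := MorphismProperty.Over.homMk g₁.left rfl
      have hl : (g₁.left : H.left ⟶ W.left) ≫ g.left ≫ a₀ i = H.hom := MorphismProperty.Over.w g₁
      let c : piece (a₀ i) (l ≫ g) ⟶ H := MorphismProperty.Over.homMk (𝟙 H.left)
        ((Category.id_comp _).trans (hl.symm.trans (Category.assoc _ _ _).symm))
      exact ⟨H', l, z, hg₁, M, inferInstance, inferInstance, _, hσ.comap (c ≫ g₂)⟩)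
  choose M hM hMf σ hσ using fun i => hP i (Finset.mem_univ i)
  let a : Fin n → (V.left ⟶ X) := fun i => g.left ≫ a₀ i
  haveI := Groth.Agent.EtSect.etale_left g
  have ha : ∀ i, a i ≫ f = V.hom := fun i => by
    simp only [a, Category.assoc, ha₀]; exact MorphismProperty.Over.w g
  let c : ∀ i, piece (a i) (𝟙 V) ⟶ piece (a₀ i) g := fun i =>
    MorphismProperty.Over.homMk (𝟙 V.left) rfl
  have hq : ∀ i, (pieceMap f (a i) (ha i) (𝟙 V)).left = (pieceMap f (a₀ i) (ha₀ i) g).left := fun i =>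
    pullback.hom_ext ((pieceMap_fst f _ (ha i) _).trans (pieceMap_fst f _ (ha₀ i) g).symm)
      ((pieceMap_snd f _ (ha i) _).trans ((Category.id_comp _).trans (pieceMap_snd f _ (ha₀ i) g).symm))
  obtain ⟨τ, hτ⟩ := isTriv_push f F a ha
    (fun i j hij x y hxy => by
      rw [hq, hq] at hxy
      have hx : (pieceMap f (a₀ i) (ha₀ i) g).left x ∈ Set.range (pieceMap f (a₀ i) (ha₀ i) g).left := ⟨x, rfl⟩
      have hy : (pieceMap f (a₀ i) (ha₀ i) g).left x ∈ Set.range (pieceMap f (a₀ j) (ha₀ j) g).left :=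
        ⟨y, hxy.symm⟩
      rw [range_pieceMap] at hx hy
      obtain ⟨x', hx'⟩ := hx
      obtain ⟨y', hy'⟩ := hy
      exact hd i j hij x' y' (hx'.trans hy'.symm))
    (fun p => by
      obtain ⟨i, hi⟩ := hc (((EtCoh.bc f).map g).left p)
      exact ⟨i, by rw [hq]; exact (Set.ext_iff.1 (range_pieceMap f (a₀ i) (ha₀ i) g) p).2 hi⟩)
    M (fun i => (res F (c i)).comp (σ i)) (fun i => (hσ i).comap (c i))
  refine ⟨V, v, ∀ i, M i, inferInstance, inferInstance, τ, ?_, hτ⟩
  rw [← hv₀, ← hv, hom_comp_left]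

end Groth.Agent.EtFLC
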