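import Groth.Agent.EtFLC.Site
import Groth.Prelude.Def_EtRestW
import Mathlib.CategoryTheory.Sites.ConstantSheaf
import Mathlib.CategoryTheory.Sites.LocallyBijective

/-!
A section-level criterion for a restricted sheaf to be constant.
-/

set_option autoImplicit false

universe u

open CategoryTheory CategoryTheory.Limits AlgebraicGeometry Opposite

noncomputable section

namespace Groth.Agent.EtFLC

variable {X : Scheme.{u}}

/-- `σ` identifies `F` on `U` with the constant sheaf of value `M`. -/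
structure IsTriv (F : EtCoh.Ab X) (U : X.Etale) {M : Type*} [AddCommGroup M] (σ : M →+ EtCoh.sect F U) : Prop where
  surj : ∀ {V : X.Etale} (g : V ⟶ U) (s : EtCoh.sect F V) (v : V.left),
    ∃ (W : X.Etale) (h : W ⟶ V) (w : W.left) (m : M), h.left w = v ∧ res F h s = res F (h ≫ g) (σ m)
  inj : ∀ {V : X.Etale} (g : V ⟶ U) (m : M), res F g (σ m) = 0 → ∀ _ : V.left, m = 0

theorem IsTriv.comap {F : EtCoh.Ab X} {U U' : X.Etale} {M : Type*} [AddCommGroup M] {σ : M →+ EtCoh.sect F U}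
    (h : IsTriv F U σ) (k : U' ⟶ U) : IsTriv F U' ((res F k).comp σ) where
  surj g s v := by
    obtain ⟨W, l, w, m, hw, hm⟩ := h.surj (g ≫ k) s v
    exact ⟨W, l, w, m, hw, by rw [hm, AddMonoidHom.comp_apply, res_res, Category.assoc]⟩
  inj g m hm := h.inj (g ≫ k) m (by rw [← res_res]; exact hm)

theorem IsTriv.congr {F : EtCoh.Ab X} {U : X.Etale} {M N : Type*} [AddCommGroup M] [AddCommGroup N]
    {σ : M →+ EtCoh.sect F U} (h : IsTriv F U σ) (e : N ≃+ M) : IsTriv F U (σ.comp e.toAddMonoidHom) where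
  surj g s v := by
    obtain ⟨W, l, w, m, hw, hm⟩ := h.surj g s v
    exact ⟨W, l, w, e.symm m, hw, by simpa using hm⟩
  inj g m hm v := e.injective (by simpa using h.inj g (e m) hm v)

section Iso

variable (U : X.Etale) (M : AddCommGrpCat.{u + 1})

local notation "JU" => GrothendieckTopology.over X.smallEtaleTopology U

/-- The constant presheaf on the site over `U`. -/
abbrev cPre : (Over U)ᵒᵖ ⥤ AddCommGrpCat.{u + 1} := (Functor.const _).obj M

/-- The presheaf map defined by a family of sections. -/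
def psi (F : EtCoh.Ab X) (σ : M →+ EtCoh.sect F U) : cPre U M ⟶ (EtCoh.restr F U).obj where
  app V := AddCommGrpCat.ofHom ((res F V.unop.hom).comp σ)
  naturality V W k := by
    ext m
    change res F W.unop.hom (σ m) = res F k.unop.left (res F V.unop.hom (σ m))
    rw [res_res, Over.w]

theorem mem_over {V : Over U} (S : Sieve V)
    (h : ∀ v : V.left.left, ∃ (W : Over U) (k : W ⟶ V) (w : W.left.left), S k ∧ k.left.left w = v) :
    S ∈ (JU) V := by
  rw [GrothendieckTopology.mem_over_iff, mem_iff]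
  intro v
  obtain ⟨W, k, w, hk, hw⟩ := h v
  refine ⟨W.left, k.left, w, ?_, hw⟩
  rw [Sieve.overEquiv_iff]
  exact S.downward_closed hk (Over.homMk (𝟙 W.left) (by simp) : Over.mk (k.left ≫ V.hom) ⟶ W) |>
    fun h => by
      convert h using 1
      apply Over.OverMorphism.ext
      simp

theorem exists_of_mem_over {V : Over U} {S : Sieve V} (hS : S ∈ (JU) V) (v : V.left.left) :
    ∃ (W : X.Etale) (k : W ⟶ V.left) (w : W.left), k.left w = v ∧
      S (Over.homMk k : Over.mk (k ≫ V.hom) ⟶ V) := by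
  rw [GrothendieckTopology.mem_over_iff, mem_iff] at hS
  obtain ⟨W, k, w, hk, hw⟩ := hS v
  rw [Sieve.overEquiv_iff] at hk
  exact ⟨W, k, w, hw, hk⟩

variable {U M}

/-- The map from the constant sheaf defined by a family of sections. -/
def descTriv (F : EtCoh.Ab X) (σ : M →+ EtCoh.sect F U) :
    (constantSheaf (JU) AddCommGrpCat.{u + 1}).obj M ⟶ EtCoh.restr F U :=
  (presheafToSheaf (JU) AddCommGrpCat.{u + 1}).map (psi U M F σ) ≫
    (sheafificationAdjunction (JU) AddCommGrpCat.{u + 1}).counit.app (EtCoh.restr F U)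

/-- Sections identifying with a constant group give an isomorphism with the constant sheaf. -/
theorem isIso_descTriv {F : EtCoh.Ab X} {σ : M →+ EtCoh.sect F U} (h : IsTriv F U σ) : IsIso (descTriv F σ) := by
  have hinj : Presheaf.IsLocallyInjective (JU) (psi U M F σ) := ⟨fun {V} x y hxy => by
    refine mem_over U _ fun v => ⟨V.unop, 𝟙 _, v, ?_, rfl⟩
    change (cPre U M).map (𝟙 _).op x = (cPre U M).map (𝟙 _).op y
    have h0 : x - y = 0 := by
      refine h.inj V.unop.hom (x - y) ?_ v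
      have hxy' : res F V.unop.hom (σ x) = res F V.unop.hom (σ y) := hxy
      rw [map_sub, map_sub, hxy', sub_self]
    rw [sub_eq_zero.1 h0]⟩
  have hsurj : Presheaf.IsLocallySurjective (JU) (psi U M F σ) := ⟨fun {V} s => by
    refine mem_over U _ fun v => ?_
    obtain ⟨W, k, w, m, hw, hm⟩ := h.surj V.hom s v
    exact ⟨Over.mk (k ≫ V.hom), Over.homMk k, w, ⟨m, hm.symm⟩, hw⟩⟩
  have hW : (JU).W (psi U M F σ) := (JU).W_of_isLocallyBijective _
  haveI : IsIso ((presheafToSheaf (JU) AddCommGrpCat.{u + 1}).map (psi U M F σ)) := ((JU).W_iff _).1 hW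
  exact inferInstanceAs (IsIso ((presheafToSheaf (JU) AddCommGrpCat.{u + 1}).map (psi U M F σ) ≫
    (sheafificationAdjunction (JU) AddCommGrpCat.{u + 1}).counit.app (EtCoh.restr F U)))

theorem nonempty_iso {F : EtCoh.Ab X} {σ : M →+ EtCoh.sect F U} (h : IsTriv F U σ) :
    Nonempty (EtCoh.restr F U ≅ (constantSheaf (JU) AddCommGrpCat.{u + 1}).obj M) :=
  haveI := isIso_descTriv h
  ⟨(asIso (descTriv F σ)).symm⟩

theorem descTriv_natural {N : AddCommGrpCat.{u + 1}} {F G : EtCoh.Ab X} (φ : F ⟶ G)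
    {σ : M →+ EtCoh.sect F U} {τ : N →+ EtCoh.sect G U} (f : M ⟶ N)
    (h : ∀ m, (φ.hom.app (op U)).hom (σ m) = τ (f.hom m)) :
    descTriv F σ ≫ (X.smallEtaleTopology.overPullback AddCommGrpCat.{u + 1} U).map φ =
      (constantSheaf (JU) AddCommGrpCat.{u + 1}).map f ≫ descTriv G τ := by
  have hp : psi U M F σ ≫ ((X.smallEtaleTopology.overPullback AddCommGrpCat.{u + 1} U).map φ).hom =
      (Functor.const _).map f ≫ psi U N G τ := by
    ext V m
    change (φ.hom.app (op V.unop.left)).hom (res F V.unop.hom (σ m)) = res G V.unop.hom (τ (f.hom m))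
    rw [app_res, h]
  let P := presheafToSheaf (JU) AddCommGrpCat.{u + 1}
  let ε := (sheafificationAdjunction (JU) AddCommGrpCat.{u + 1}).counit
  let φ' := (X.smallEtaleTopology.overPullback AddCommGrpCat.{u + 1} U).map φ
  have h1 : ε.app (EtCoh.restr F U) ≫ φ' = P.map φ'.hom ≫ ε.app (EtCoh.restr G U) := (ε.naturality φ').symm
  have h2 : P.map (psi U M F σ) ≫ P.map φ'.hom =
      P.map ((Functor.const _).map f) ≫ P.map (psi U N G τ) :=
    (P.map_comp _ _).symm.trans ((congrArg P.map hp).trans (P.map_comp _ _))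
  exact (Category.assoc _ _ _).trans ((congrArg (P.map (psi U M F σ) ≫ ·) h1).trans
    ((Category.assoc _ _ _).symm.trans ((congrArg (· ≫ ε.app (EtCoh.restr G U)) h2).trans (Category.assoc _ _ _))))

/-- Conversely. -/
theorem exists_triv {F : EtCoh.Ab X}
    (e : EtCoh.restr F U ≅ (constantSheaf (JU) AddCommGrpCat.{u + 1}).obj M) :
    ∃ σ : M →+ EtCoh.sect F U, IsTriv F U σ := by
  let η := toSheafify (JU) (cPre U M)
  let α : cPre U M ⟶ (EtCoh.restr F U).obj :=
    η ≫ ((sheafToPresheaf (JU) AddCommGrpCat.{u + 1}).mapIso e).inv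
  let σ : M →+ EtCoh.sect F U := (α.app (op (Over.mk (𝟙 U)))).hom
  have hα : ∀ {V : X.Etale} (g : V ⟶ U) (m : M), (α.app (op (Over.mk g))).hom m = res F g (σ m) := fun {V} g m =>
    ConcreteCategory.congr_hom (α.naturality (Over.homMk g : Over.mk g ⟶ Over.mk (𝟙 U)).op) m
  have hw : (JU).W α := by
    refine ((JU).W).comp_mem _ _ ((JU).W_toSheafify _) ?_
    exact ((JU).W).of_isIso _
  have hb := ((JU).W_iff_isLocallyBijective α).1 hw
  haveI := hb.1
  haveI := hb.2
  refine ⟨σ, ⟨fun {V} g s v => ?_, fun {V} g m hm v => ?_⟩⟩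
  · obtain ⟨W, k, w, hw, m, hm⟩ := exists_of_mem_over U (Presheaf.imageSieve_mem (JU) α (U := op (Over.mk g)) s) v
    refine ⟨W, k, w, m, hw, ?_⟩
    rw [← hα]
    exact hm.symm
  · have h0 : (α.app (op (Over.mk g))).hom m = (α.app (op (Over.mk g))).hom 0 := by
      rw [hα, hm, map_zero]; rfl
    obtain ⟨W, k, w, -, hk⟩ := exists_of_mem_over U (Presheaf.equalizerSieve_mem (JU) α m 0 h0) v
    simpa using hk

theorem iso_iff {F : EtCoh.Ab X} :
    Nonempty (EtCoh.restr F U ≅ (constantSheaf (JU) AddCommGrpCat.{u + 1}).obj M) ↔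
      ∃ σ : M →+ EtCoh.sect F U, IsTriv F U σ :=
  ⟨fun ⟨e⟩ => exists_triv e, fun ⟨_, h⟩ => nonempty_iso h⟩

end Iso

theorem isFLC_iff (F : EtCoh.Ab X) :
    EtCoh.IsFiniteLocallyConstant F ↔ ∀ x : X, ∃ (U : X.Etale) (u : U.left) (M : Type) (_ : AddCommGroup M)
      (_ : Finite M) (σ : M →+ EtCoh.sect F U), U.hom u = x ∧ IsTriv F U σ := by
  constructor
  · rintro ⟨ι, U, hU, h⟩ x
    obtain ⟨i, y, hy⟩ := hU x
    obtain ⟨M, _, _, e⟩ := h i
    obtain ⟨σ, hσ⟩ := iso_iff.1 e
    exact ⟨U i, y, M, inferInstance, inferInstance, _, hy, hσ.congr AddEquiv.ulift.symm⟩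
  · intro h
    choose U y M _ _ σ hy hσ using h
    refine ⟨X, U, fun x => ⟨x, y x, hy x⟩, fun x => ⟨M x, inferInstance, inferInstance, ?_⟩⟩
    exact iso_iff.2 ⟨_, (hσ x).congr AddEquiv.ulift⟩

theorem isLC_iff (F : EtCoh.Ab X) :
    EtRest.IsLocallyConstant F ↔ ∀ x : X, ∃ (U : X.Etale) (u : U.left) (M : Type (u + 1)) (_ : AddCommGroup M)
      (σ : M →+ EtCoh.sect F U), U.hom u = x ∧ IsTriv F U σ := by
  constructor
  · rintro ⟨ι, U, hU, h⟩ x
    obtain ⟨i, y, hy⟩ := hU x
    obtain ⟨M, _, e⟩ := h i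
    obtain ⟨σ, hσ⟩ := iso_iff.1 e
    exact ⟨U i, y, M, inferInstance, σ, hy, hσ⟩
  · intro h
    choose U y M _ σ hy hσ using h
    exact ⟨X, U, fun x => ⟨x, y x, hy x⟩, fun x => ⟨M x, inferInstance, iso_iff.2 ⟨σ x, hσ x⟩⟩⟩

end Groth.Agent.EtFLC
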