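import Groth.Agent.EtFLC.Triv
import Groth.Agent.FEtRank.Split
import Groth.Agent.S0107

/-!
# A finite étale connected cover trivialising a finite locally constant sheaf
-/

set_option autoImplicit false
set_option backward.isDefEq.respectTransparency false
set_option linter.style.haveILetI false

universe u

open CategoryTheory CategoryTheory.Limits AlgebraicGeometry Opposite

noncomputable section

namespace Groth.Agent.EtFLC

open Groth.Agent.FEtRank Groth.Agent.FEtGal

variable {X : Scheme.{u}}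

/-- Two maps to a separated étale scheme agree on an open-closed subscheme containing every point where they
agree. -/
theorem exists_clopen_eq {V U : Scheme.{u}} (p : U ⟶ X) [Etale p] [IsSeparated p] (a b : V ⟶ U)
    (h : a ≫ p = b ≫ p) :
    ∃ E : V.Opens, IsClopen (E : Set V) ∧ E.ι ≫ a = E.ι ≫ b ∧
      ∀ {P : Scheme.{u}} (η : P ⟶ V), η ≫ a = η ≫ b → ∀ x, η x ∈ E := by
  let Δ := pullback.diagonal p
  haveI : IsOpenImmersion Δ := inferInstance
  haveI : IsClosedImmersion Δ := IsSeparated.isClosedImmersion_diagonal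
  let L : V ⟶ pullback p p := pullback.lift a b h
  refine ⟨L ⁻¹ᵁ Δ.opensRange, ⟨Δ.isClosedEmbedding.isClosed_range.preimage L.continuous,
    (L ⁻¹ᵁ Δ.opensRange).2⟩, ?_, fun {P} η hη x => ?_⟩
  · let E := L ⁻¹ᵁ Δ.opensRange
    have hr : Set.range (E.ι ≫ L) ⊆ Set.range Δ := by
      rintro _ ⟨x, rfl⟩
      exact x.2
    let l := IsOpenImmersion.lift Δ (E.ι ≫ L) hr
    have hl : l ≫ Δ = E.ι ≫ L := IsOpenImmersion.lift_fac _ _ _
    have h1 := congrArg (· ≫ pullback.fst p p) hl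
    have h2 := congrArg (· ≫ pullback.snd p p) hl
    simp only [Category.assoc, Δ, L, pullback.diagonal_fst, pullback.diagonal_snd, pullback.lift_fst,
      pullback.lift_snd, Category.comp_id] at h1 h2
    exact h1.symm.trans h2
  · show L (η x) ∈ Set.range Δ
    have : η ≫ L = (η ≫ a) ≫ Δ := by
      apply pullback.hom_ext <;> simp [L, Δ, hη]
    rw [← Scheme.Hom.comp_apply, this, Scheme.Hom.comp_apply]
    exact ⟨_, rfl⟩

/-- Two maps from a connected scheme to a separated étale scheme agreeing at a point are equal. -/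
theorem eq_of_point {V U : Scheme.{u}} [ConnectedSpace V] (p : U ⟶ X) [Etale p] [IsSeparated p] (a b : V ⟶ U)
    (h : a ≫ p = b ≫ p) {P : Scheme.{u}} [Nonempty P] (η : P ⟶ V) (hη : η ≫ a = η ≫ b) : a = b := by
  obtain ⟨E, hc, hE, hp⟩ := exists_clopen_eq p a b h
  have hu : (E : Set V) = Set.univ := hc.eq_univ ⟨_, hp η hη (Classical.arbitrary P)⟩
  have : E = ⊤ := TopologicalSpace.Opens.ext hu
  subst this
  haveI : IsIso (⊤ : V.Opens).ι := inferInstanceAs (IsIso V.topIso.hom)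
  exact (cancel_epi (⊤ : V.Opens).ι).1 hE

/-- A finite étale scheme over a connected scheme has a connected open-closed part mapping onto the base. -/
theorem exists_connected_part [ConnectedSpace X] {T : Scheme.{u}} (g : T ⟶ X) [IsFinite g] [Etale g] [Nonempty T] :
    ∃ O : T.Opens, IsClosed (O : Set T) ∧ ConnectedSpace (O : Scheme.{u}) ∧ Surjective (O.ι ≫ g) := by
  classical
  obtain ⟨x₀⟩ : Nonempty X := inferInstance
  have hsurj : ∀ C : Set T, IsClopen C → C.Nonempty → g '' C = Set.univ := fun C hC hne =>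
    IsClopen.eq_univ ⟨g.isClosedMap _ hC.isClosed, g.isOpenMap _ hC.isOpen⟩ (hne.image _)
  have hfib : (g ⁻¹' {x₀}).Finite := g.finite_preimage_singleton x₀
  obtain ⟨C, ⟨hC, hCne⟩, hmin⟩ : ∃ C : Set T, (IsClopen C ∧ C.Nonempty) ∧
      ∀ C' : Set T, IsClopen C' ∧ C'.Nonempty → (C ∩ g ⁻¹' {x₀}).ncard ≤ (C' ∩ g ⁻¹' {x₀}).ncard := by
    have hex : ∃ k, ∃ C : Set T, (IsClopen C ∧ C.Nonempty) ∧ (C ∩ g ⁻¹' {x₀}).ncard = k :=
      ⟨_, Set.univ, ⟨isClopen_univ, Set.univ_nonempty⟩, rfl⟩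
    obtain ⟨C, h1, h2⟩ := Nat.find_spec hex
    exact ⟨C, h1, fun C' h' => h2 ▸ Nat.find_min' hex ⟨C', h', rfl⟩⟩
  let O : T.Opens := ⟨C, hC.isOpen⟩
  refine ⟨O, hC.isClosed, ?_, ⟨fun x => ?_⟩⟩
  · refine connectedSpace_iff_clopen.2 ⟨⟨⟨_, hCne.some_mem⟩⟩, fun D hD => ?_⟩
    by_contra hD'
    simp only [not_or, ← Set.nonempty_iff_ne_empty, Set.ne_univ_iff_exists_notMem] at hD'
    obtain ⟨hne, d, hd⟩ := hD'
    have him : ∀ D : Set (O : Scheme.{u}), IsClopen D → D.Nonempty → IsClopen (O.ι '' D) ∧ (O.ι '' D).Nonempty :=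
      fun D hD hne => by
        refine ⟨⟨?_, O.ι.isOpenEmbedding.isOpenMap _ hD.isOpen⟩, hne.image _⟩
        exact (Topology.IsClosedEmbedding.isClosedMap ⟨O.ι.isOpenEmbedding.isEmbedding,
          by rw [Scheme.Opens.range_ι]; exact hC.isClosed⟩) _ hD.isClosed
    have h1 := him D hD hne
    have h2 := him Dᶜ hD.compl ⟨d, hd⟩
    obtain ⟨c, hc, hcx⟩ := (hsurj _ h2.1 h2.2).symm ▸ Set.mem_univ x₀
    have hlt : (O.ι '' D ∩ g ⁻¹' {x₀}).ncard < (C ∩ g ⁻¹' {x₀}).ncard := by
      refine Set.ncard_lt_ncard ⟨?_, fun hsub => ?_⟩ (hfib.subset Set.inter_subset_right)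
      · rintro _ ⟨⟨z, -, rfl⟩, hz⟩
        exact ⟨z.2, hz⟩
      · obtain ⟨z, hz, rfl⟩ := hc
        obtain ⟨z', hz', he⟩ := (hsub ⟨z.2, hcx⟩).1
        rw [O.ι.isOpenEmbedding.injective he] at hz'
        exact hz hz'
    exact absurd (hmin _ h1) (not_le.2 hlt)
  · obtain ⟨c, hc, hcx⟩ := (hsurj C hC hCne).symm ▸ Set.mem_univ x
    exact ⟨⟨c, hc⟩, hcx⟩

/-- A connected finite étale cover with sections through all points of the fibres of a finite étale scheme. -/
theorem exists_connected_split [ConnectedSpace X] (U : X.Etale) (hU : IsFinite U.hom) :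
    ∃ (W : X.Etale) (n : ℕ) (S : Fin n → (W ⟶ U)),
      IsFinite W.hom ∧ Surjective W.hom ∧ ConnectedSpace W.left ∧
      ∀ (Ω : Type u) [Field Ω] [IsAlgClosed Ω] (η : Spec (CommRingCat.of Ω) ⟶ W.left),
        (∀ i j, η ≫ (S i).left = η ≫ (S j).left → i = j) ∧
        ∀ b : Spec (CommRingCat.of Ω) ⟶ U.left, b ≫ U.hom = η ≫ W.hom → ∃ j, b = η ≫ (S j).left := by
  haveI : Etale U.hom := U.prop
  let Y : FEt.Cat X := MorphismProperty.Over.mk ⊤ U.hom ⟨hU, U.prop⟩
  obtain ⟨x₀⟩ : Nonempty X := inferInstance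
  let n := (str Y).finrank x₀
  have hn : ∀ (Ω : Type u) [Field Ω] [IsAlgClosed Ω] (ξ : Spec (CommRingCat.of Ω) ⟶ X),
      Nat.card (FEt.fiberObj ξ Y) = n := fun Ω _ _ ξ => by
    rw [natCard_fiber]
    exact (Scheme.Hom.isLocallyConstant_finrank (str Y)).apply_eq_of_preconnectedSpace _ _
  obtain ⟨T, s, hT, hs⟩ := exists_split n Y hn
  haveI : IsFinite (str T) := T.prop.1
  haveI : Etale (str T) := T.prop.2
  haveI : Nonempty T.left := by
    obtain ⟨Ω, _, _, ξ, -⟩ := exists_geomPt x₀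
    have : Nonempty (FEt.fiberObj ξ T) := (Nat.card_pos_iff.1 (by rw [hT]; exact n.factorial_pos)).1
    exact ⟨this.some.1 (pt₀ Ω)⟩
  obtain ⟨O, hO, hconn, hsur⟩ := exists_connected_part (str T)
  haveI : IsClosedImmersion O.ι := IsClosedImmersion.of_isPreimmersion O.ι (by
    rw [Scheme.Opens.range_ι]; exact hO)
  haveI : Etale (O.ι ≫ str T) := inferInstance
  let W : X.Etale := Scheme.Etale.mk (O.ι ≫ str T)
  have w : ∀ j, (s j).left ≫ pullback.fst (str Y) (str T) ≫ str Y = str T := fun j => by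
    have h : (s j).left ≫ pullback.snd (str Y) (str T) = 𝟙 _ := MorphismProperty.Over.w (s j)
    rw [pullback.condition]
    exact (reassoc_of% h) _
  let S : Fin n → (W ⟶ U) := fun j => MorphismProperty.Over.homMk
    (O.ι ≫ (s j).left ≫ pullback.fst (str Y) (str T)) (by
      show (O.ι ≫ (s j).left ≫ pullback.fst (str Y) (str T)) ≫ str Y = O.ι ≫ str T
      rw [Category.assoc, Category.assoc, w])
  refine ⟨W, n, S, inferInstanceAs (IsFinite (O.ι ≫ str T)), hsur, hconn, fun Ω _ _ η => ?_⟩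
  have hv : ∀ j, (secPt (s j) (η ≫ O.ι)).1 ≫ pullback.fst (str Y) (str T) = η ≫ (S j).left := fun j => by
    show ((η ≫ O.ι) ≫ (s j).left) ≫ pullback.fst (str Y) (str T) =
      η ≫ (O.ι ≫ (s j).left ≫ pullback.fst (str Y) (str T))
    rw [Category.assoc, Category.assoc]
  refine ⟨fun i j hij => (hs Ω (η ≫ O.ι)).1 (Subtype.ext (pullback.hom_ext ?_ ?_)), fun b hb => ?_⟩
  · exact (hv i).trans (hij.trans (hv j).symm)
  · exact (secPt (s i) _).2.trans (secPt (s j) _).2.symm
  · obtain ⟨j, hj⟩ := (hs Ω (η ≫ O.ι)).2 ⟨pullback.lift b (η ≫ O.ι) (by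
      exact hb.trans (Category.assoc _ _ _).symm), pullback.lift_snd _ _ _⟩
    refine ⟨j, ?_⟩
    rw [← hv j]
    exact ((congrArg (fun z => z.1 ≫ pullback.fst (str Y) (str T)) hj).trans (pullback.lift_fst _ _ _)).symm

/-- A connected finite étale cover trivialising a finite locally constant sheaf on a connected scheme. -/
theorem exists_finite_triv [ConnectedSpace X] (F : EtCoh.Ab X) (hF : EtCoh.IsFiniteLocallyConstant F) :
    ∃ (W : X.Etale) (M : Type) (_ : AddCommGroup M) (_ : Finite M) (σ : M →+ EtCoh.sect F W),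
      IsFinite W.hom ∧ Surjective W.hom ∧ ConnectedSpace W.left ∧ IsTriv F W σ := by
  obtain ⟨U, hU, ⟨e⟩⟩ := Groth.Agent.S0107.result F hF
  obtain ⟨W, n, S, hWf, hWs, hconn, hpt⟩ := exists_connected_split U hU
  haveI : Etale U.hom := U.prop
  haveI : IsFinite U.hom := hU
  haveI := hconn
  obtain ⟨Ω₀, _, _, η₀, -⟩ := exists_geomPt (Classical.arbitrary W.left)
  have hS : Function.Bijective S := ⟨fun i j h => (hpt Ω₀ η₀).1 i j (by rw [h]), fun b => by
    obtain ⟨j, hj⟩ := (hpt Ω₀ η₀).2 (η₀ ≫ b.left)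
      ((Category.assoc _ _ _).trans (congrArg (η₀ ≫ ·) (MorphismProperty.Over.w b)))
    refine ⟨j, MorphismProperty.Over.Hom.ext ?_⟩
    exact (eq_of_point U.hom b.left (S j).left
      ((MorphismProperty.Over.w b).trans (MorphismProperty.Over.w (S j)).symm) η₀ hj).symm⟩
  let ε : ∀ V : X.Etale, EtCoh.sect F V ≃ (V ⟶ U) := fun V =>
    ((e.app (op V)).toEquiv).trans Equiv.ulift
  have hε : ∀ {V V' : X.Etale} (g : V' ⟶ V) (t : EtCoh.sect F V), ε V' (res F g t) = g ≫ ε V t := fun g t =>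
    congrArg ULift.down (ConcreteCategory.congr_hom (e.hom.naturality g.op) t)
  let q : Fin n ≃ EtCoh.sect F W := (Equiv.ofBijective S hS).trans (ε W).symm
  have hq : ∀ j, ε W (q j) = S j := fun j => (ε W).apply_symm_apply _
  letI : AddCommGroup (Fin n) := q.addCommGroup
  let σ : Fin n →+ EtCoh.sect F W :=
    { toFun := q, map_zero' := q.apply_symm_apply _, map_add' := fun a b => q.apply_symm_apply _ }
  have hσ : ∀ j, ε W (σ j) = S j := hq
  refine ⟨W, Fin n, inferInstance, inferInstance, σ, hWf, hWs, hconn, ?_, ?_⟩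
  · intro V g t v
    obtain ⟨Ω, _, _, η, hη⟩ := exists_geomPt v
    obtain ⟨j, hj⟩ := (hpt Ω (η ≫ g.left)).2 (η ≫ (ε V t).left) (by
      rw [Category.assoc, Category.assoc, MorphismProperty.Over.w (ε V t), MorphismProperty.Over.w g])
    obtain ⟨E, -, hE, hp⟩ := exists_clopen_eq U.hom (ε V t).left (g.left ≫ (S j).left)
      ((MorphismProperty.Over.w (ε V t)).trans (by
        rw [Category.assoc, MorphismProperty.Over.w (S j), MorphismProperty.Over.w g]))
    haveI : Etale V.hom := V.prop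
    let Z : X.Etale := Scheme.Etale.mk (E.ι ≫ V.hom)
    let h : Z ⟶ V := MorphismProperty.Over.homMk E.ι rfl
    refine ⟨Z, h, ⟨v, hη ▸ hp η (hj.trans (Category.assoc _ _ _)) (pt₀ Ω)⟩, j, rfl, ?_⟩
    apply (ε Z).injective
    rw [hε, hε, hσ]
    refine MorphismProperty.Over.Hom.ext ?_
    show E.ι ≫ (ε V t).left = (E.ι ≫ g.left) ≫ (S j).left
    rw [hE, Category.assoc]
  · intro V g m hm v
    obtain ⟨Ω, _, _, η, -⟩ := exists_geomPt v
    have h0 : res F g (σ 0) = 0 := by rw [map_zero, map_zero]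
    have h1 := congrArg (ε V) (hm.trans h0.symm)
    rw [hε, hε, hσ, hσ] at h1
    refine (hpt Ω (η ≫ g.left)).1 m 0 ?_
    have h2 := congrArg (fun z : V ⟶ U => η ≫ z.left) h1
    exact (Category.assoc _ _ _).trans (h2.trans (Category.assoc _ _ _).symm)

end Groth.Agent.EtFLC
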