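import Groth.Agent.EtFLC.KPiGlue
import Groth.Agent.EtFLC.PushFlc
import Groth.Agent.EtMV.HofPush
import Groth.Agent.S3054
import Groth.Agent.EtPBC.Killed

/-!
# Finite étale covers: connected components and killing classes
-/

set_option autoImplicit false
set_option backward.isDefEq.respectTransparency false
set_option backward.isDefEq.respectTransparency.types false
set_option linter.auxLemma false
set_option linter.style.haveILetI false

universe u

open CategoryTheory CategoryTheory.Limits CategoryTheory.Abelian AlgebraicGeometry Opposite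

noncomputable section

namespace Groth.Agent.EtFLC

attribute [local instance 100000] EtCoh.H._proof_1 EtMV.hext
attribute [local instance 200000] EtMV.hextAb

/-- A space with finitely many clopen subsets has finitely many connected components. -/
theorem finite_connectedComponents_of_finite_clopen {Z : Type u} [TopologicalSpace Z]
    (h : {C : Set Z | IsClopen C}.Finite) : Finite (_root_.ConnectedComponents Z) := by
  classical
  let S := {C : Set Z | IsClopen C}
  have hK : ∀ z : Z, IsClopen (⋂ C ∈ {C | C ∈ S ∧ z ∈ C}, C) := fun z =>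
    (h.subset fun C hC => hC.1).isClopen_biInter fun C hC => hC.1
  have hconn : ∀ z : Z, IsPreconnected (⋂ C ∈ {C | C ∈ S ∧ z ∈ C}, C) := by
    intro z
    rw [isPreconnected_iff_subset_of_disjoint]
    intro u v hu hv hsub hdisj
    set K := ⋂ C ∈ {C | C ∈ S ∧ z ∈ C}, C with hKdef
    have hmem : z ∈ K := Set.mem_iInter₂.2 fun C hC => hC.2
    have hKu : IsClopen (K ∩ u) := by
      refine ⟨?_, (hK z).isOpen.inter hu⟩
      have : K ∩ u = K \ v := by
        ext x
        refine ⟨fun hx => ⟨hx.1, fun hxv => ?_⟩, fun hx => ⟨hx.1, (hsub hx.1).resolve_right hx.2⟩⟩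
        exact (Set.notMem_empty x) (hdisj ▸ ⟨hx.1, hx.2, hxv⟩)
      rw [this]
      exact (hK z).isClosed.sdiff hv
    by_cases hzu : z ∈ u
    · left
      intro x hx
      exact ((Set.mem_iInter₂.1 hx) (K ∩ u) ⟨hKu, hmem, hzu⟩).2
    · right
      intro x hx
      have h1 : x ∈ (K ∩ u)ᶜ := (Set.mem_iInter₂.1 hx) _ ⟨hKu.compl, fun h => hzu h.2⟩
      exact (hsub hx).resolve_left fun hxu => h1 ⟨hx, hxu⟩
  haveI : Finite S := h.to_subtype
  let key : _root_.ConnectedComponents Z → Set S := fun c => {C | ∃ z : Z, ConnectedComponents.mk z = c ∧ z ∈ C.1}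
  refine Finite.of_injective key fun c d hcd => ?_
  obtain ⟨z, rfl⟩ := ConnectedComponents.surjective_coe c
  obtain ⟨w, rfl⟩ := ConnectedComponents.surjective_coe d
  have hw : w ∈ ⋂ C ∈ {C | C ∈ S ∧ z ∈ C}, C := Set.mem_iInter₂.2 fun C hC => by
    obtain ⟨w', hw', hmem⟩ := (Set.ext_iff.1 hcd ⟨C, hC.1⟩).1 ⟨z, rfl, hC.2⟩
    by_contra hwC
    have hcc : connectedComponent w' ⊆ C := isPreconnected_connectedComponent.subset_isClopen hC.1
      ⟨w', mem_connectedComponent, hmem⟩
    exact hwC (hcc (ConnectedComponents.coe_eq_coe.1 hw' ▸ mem_connectedComponent))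
  refine ConnectedComponents.coe_eq_coe'.2 ?_
  exact (hconn w).subset_connectedComponent (Set.mem_iInter₂.2 fun C hC => hC.2) (by
    refine Set.mem_iInter₂.2 fun C hC => ?_
    by_contra hzC
    exact (Set.mem_iInter₂.1 hw) Cᶜ ⟨hC.1.compl, hzC⟩ hC.2)

/-- A finite étale scheme over a scheme with finitely many components has finitely many components. -/
theorem finite_components_of_finite_etale {X Y : Scheme.{u}} (f : X ⟶ Y) [IsFinite f] [Etale f]
    (hconn : Finite (_root_.ConnectedComponents Y)) : Finite (_root_.ConnectedComponents X) := by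
  classical
  haveI : DiscreteTopology (_root_.ConnectedComponents Y) := inferInstance
  obtain ⟨rep, hrep⟩ := ConnectedComponents.surjective_coe (α := Y).hasRightInverse
  let F : Set X := ⋃ c, f ⁻¹' {rep c}
  have hF : F.Finite := Set.finite_iUnion fun c => f.finite_preimage_singleton (rep c)
  refine finite_connectedComponents_of_finite_clopen (Set.Finite.of_finite_image (f := fun C => C ∩ F)
    (hF.finite_subsets.subset (by rintro _ ⟨C, -, rfl⟩; exact Set.inter_subset_right)) ?_)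
  intro C hC D hD (hCD : C ∩ F = D ∩ F)
  have key : ∀ C D : Set X, IsClopen C → IsClopen D → C ∩ F = D ∩ F → C ⊆ D := by
    intro C D hC hD hCD x hx
    by_contra hxD
    let E := C \ D
    have hE : IsClopen (f '' E) := ⟨f.isClosedMap _ (hC.isClosed.sdiff hD.isOpen),
      f.isOpenMap _ (hC.isOpen.sdiff hD.isClosed)⟩
    let y := f x
    have hy : y ∈ f '' E := ⟨x, ⟨hx, hxD⟩, rfl⟩
    have hr : rep (ConnectedComponents.mk y) ∈ f '' E := by
      refine isPreconnected_connectedComponent.subset_isClopen hE ⟨y, mem_connectedComponent, hy⟩ ?_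
      exact ConnectedComponents.coe_eq_coe'.1 (hrep (ConnectedComponents.mk y))
    obtain ⟨z, hz, hfz⟩ := hr
    have hzF : z ∈ F := Set.mem_iUnion.2 ⟨ConnectedComponents.mk y, hfz⟩
    have : z ∈ D ∩ F := hCD ▸ ⟨hz.1, hzF⟩
    exact hz.2 this.1
  exact (key C D hC hD hCD).antisymm (key D C hD hC hCD.symm)

/-- Classes on a finite étale cover die on finite étale covers if classes on the base do. -/
theorem exists_kill_cover {X Y : Scheme.{u}} (f : X ⟶ Y) [IsFinite f] [Etale f]
    (P : Set ℕ)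
    (h : ∀ (F : EtCoh.Ab Y), EtCoh.IsFiniteLocallyConstant F →
        (∃ n : ℕ, 0 < n ∧ (∀ p : ℕ, p.Prime → p ∣ n → p ∈ P) ∧ EtCoh.KilledBy n F) →
        ∀ q : ℕ, 0 < q → ∀ ζ : EtCoh.H Y F q,
          ∃ (Y' : Scheme.{u}) (g : Y' ⟶ Y), IsFinite g ∧ Etale g ∧ Surjective g ∧
            ∀ [PreservesFiniteLimits (EtCoh.pull g)], EtCore.Hpull g F q ζ = 0)
    (F : EtCoh.Ab X) (hF : EtCoh.IsFiniteLocallyConstant F)
    (htor : ∃ n : ℕ, 0 < n ∧ (∀ p : ℕ, p.Prime → p ∣ n → p ∈ P) ∧ EtCoh.KilledBy n F)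
    (q : ℕ) (hq : 0 < q) (ζ : EtCoh.H X F q) :
    ∃ (X' : Scheme.{u}) (g : X' ⟶ X), IsFinite g ∧ Etale g ∧ Surjective g ∧
      ∀ [PreservesFiniteLimits (EtCoh.pull g)], EtCore.Hpull g F q ζ = 0 := by
  haveI := EtPullExact.pull_preservesFiniteLimits f
  haveI : EtCoh.BCCont f := inferInstance
  obtain ⟨n, hn, hnP, hk⟩ := htor
  have hR : ∀ m : ℕ, IsZero ((EtCoh.Rpush f (m + 1)).obj F) := fun m =>
    Groth.Agent.S3054.result f F (m + 1) m.succ_pos
  obtain ⟨ζ', rfl⟩ := (EtMV.HofPush_bijective f F hR q).2 ζ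
  obtain ⟨Y', g, hg, hge, hgs, hkill⟩ := h _ (isFLC_push f hF) ⟨n, hn, hnP, EtPBC.killed_push f hk⟩ q hq ζ'
  haveI := hg
  haveI := hge
  haveI := hgs
  let p := pullback.fst f g
  haveI := EtPullExact.pull_preservesFiniteLimits g
  haveI := EtPullExact.pull_preservesFiniteLimits (p ≫ f)
  refine ⟨pullback f g, p, inferInstance, inferInstance, inferInstance, ?_⟩
  intro _
  have h1 : EtCore.Hpull (p ≫ f) ((EtCoh.push f).obj F) q ζ' = 0 :=
    EtMemRange.Hpull_comp_eq_zero (pullback.snd f g) g _ pullback.condition.symm _ q ζ' hkill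
  have h2 : EtCore.Hpull p ((EtCoh.pull f).obj ((EtCoh.push f).obj F)) q
      (EtCore.Hpull f ((EtCoh.push f).obj F) q ζ') = 0 :=
    (EtMemRange.Hpull_eq_zero_iff p f _ rfl _ q ζ').2 h1
  have h3 := EtMV.T_comp_mk₀ (EtCoh.pull p) (EtCore.pullConst p ℤ).inv (EtCore.Hpull f ((EtCoh.push f).obj F) q ζ')
    ((EtCoh.pullPushAdj f).counit.app F)
  exact h3.trans ((congrArg (fun z => Ext.comp z (Ext.mk₀ ((EtCoh.pull p).map ((EtCoh.pullPushAdj f).counit.app F)))
    (add_zero q)) h2).trans (by rw [Ext.zero_comp]))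

/-- Classes die on finite étale covers if they do after pullback to a finite étale cover. -/
theorem exists_kill_of_cover {X Y : Scheme.{u}} (f : X ⟶ Y) [IsFinite f] [Etale f] [Surjective f]
    (P : Set ℕ)
    (h : ∀ (F : EtCoh.Ab X), EtCoh.IsFiniteLocallyConstant F →
        (∃ n : ℕ, 0 < n ∧ (∀ p : ℕ, p.Prime → p ∣ n → p ∈ P) ∧ EtCoh.KilledBy n F) →
        ∀ q : ℕ, 0 < q → ∀ ζ : EtCoh.H X F q,
          ∃ (X' : Scheme.{u}) (g : X' ⟶ X), IsFinite g ∧ Etale g ∧ Surjective g ∧
            ∀ [PreservesFiniteLimits (EtCoh.pull g)], EtCore.Hpull g F q ζ = 0)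
    (F : EtCoh.Ab Y) (hF : EtCoh.IsFiniteLocallyConstant F)
    (htor : ∃ n : ℕ, 0 < n ∧ (∀ p : ℕ, p.Prime → p ∣ n → p ∈ P) ∧ EtCoh.KilledBy n F)
    (q : ℕ) (hq : 0 < q) (ζ : EtCoh.H Y F q) :
    ∃ (Y' : Scheme.{u}) (g : Y' ⟶ Y), IsFinite g ∧ Etale g ∧ Surjective g ∧
      ∀ [PreservesFiniteLimits (EtCoh.pull g)], EtCore.Hpull g F q ζ = 0 := by
  haveI := EtPullExact.pull_preservesFiniteLimits f
  obtain ⟨n, hn, hnP, hk⟩ := htor
  obtain ⟨X', g, hg, hge, hgs, hkill⟩ := h _ (EtCons.isFLC_pull f hF) ⟨n, hn, hnP, EtPBC.killed_pull f hk⟩ q hq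
    (EtCore.Hpull f F q ζ)
  haveI := hg
  haveI := hge
  haveI := hgs
  haveI := EtPullExact.pull_preservesFiniteLimits g
  refine ⟨X', g ≫ f, inferInstance, inferInstance, inferInstance, ?_⟩
  intro _
  exact (EtMemRange.Hpull_eq_zero_iff g f _ rfl F q ζ).1 hkill

end Groth.Agent.EtFLC
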