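import Groth.Agent.EtFLC.KPiOne
import Groth.Agent.EtDivSeq.Coh

/-!
# Killing degree one classes on a scheme with finitely many connected components
-/

set_option autoImplicit false
set_option backward.isDefEq.respectTransparency false
set_option backward.isDefEq.respectTransparency.types false
set_option linter.auxLemma false
set_option linter.style.haveILetI false
set_option linter.unusedSectionVars false

universe u

open CategoryTheory CategoryTheory.Limits CategoryTheory.Abelian AlgebraicGeometry Opposite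

noncomputable section

namespace Groth.Agent.EtFLC

attribute [local instance 100000] EtCoh.H._proof_1 EtMV.hext
attribute [local instance 200000] EtMV.hextAb

/-- A class vanishing on the members of an open partition vanishes. -/
theorem eq_zero_of_partition {X : Scheme.{u}} {ι : Type u} (U : ι → X.Opens)
    (hd : ∀ i j, i ≠ j → ∀ x, x ∈ U i → x ∉ U j) (hc : ∀ x, ∃ i, x ∈ U i) (n : ℕ) (G : EtCoh.Ab X)
    (x : EtCoh.H X G (n + 1))
    (h : ∀ i, ∀ [PreservesFiniteLimits (EtCoh.pull (U i).ι)], EtCore.Hpull (U i).ι G (n + 1) x = 0) : x = 0 := by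
  haveI : ∀ v, Mono (EtMV.toTop (EtMV.oo (U v))).left := fun v => by
    have hw : (EtMV.toTop (EtMV.oo (U v))).left = (U v).ι :=
      (Category.comp_id _).symm.trans (MorphismProperty.Over.w (EtMV.toTop (EtMV.oo (U v))))
    rw [hw]
    infer_instance
  have happ : ∀ v (c : (EtMV.oo (U v)).left), (EtMV.toTop (EtMV.oo (U v))).left c = (U v).ι c := fun v c =>
    congrArg (fun f : (U v : Scheme.{u}) ⟶ X => f c)
      ((Category.comp_id _).symm.trans (MorphismProperty.Over.w (EtMV.toTop (EtMV.oo (U v)))))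
  let y := (Ext.mk₀ (EtMV.θ X).inv).comp x (zero_add (n + 1))
  have hy : y = 0 := by
    refine EtDivSeq.eq_zero_of_disjoint (fun i => EtMV.oo (U i)) (fun i => EtMV.toTop (EtMV.oo (U i))) ?_ ?_ n G y
      fun v => ?_
    · intro i j hij c d he
      rw [happ, happ] at he
      refine hd i j hij _ c.2 ?_
      show (U i).ι c ∈ U j
      rw [he]
      exact d.2
    · intro z
      obtain ⟨i, hi⟩ := hc z
      exact ⟨i, ⟨z, hi⟩, happ i ⟨z, hi⟩⟩
    · haveI := EtPullExact.pull_preservesFiniteLimits (U v).ι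
      apply (EtMV.Φ (U v) G (n + 1)).injective
      rw [map_zero, EtMV.Φ_res, ← EtMV.Hpull_eq]
      exact h v
  have h' := congrArg (fun z => (Ext.mk₀ (EtMV.θ X).hom).comp z (zero_add (n + 1))) hy
  simp only [y, Ext.mk₀_comp_mk₀_assoc, Iso.hom_inv_id, Ext.mk₀_id_comp, Ext.comp_zero] at h'
  exact h'

/-- Degree one classes of finite locally constant sheaves die on finite étale covers. -/
theorem exists_kill_H1_flc (Y : Scheme.{u}) (hconn : Finite (_root_.ConnectedComponents Y)) (F : EtCoh.Ab Y)
    (hF : EtCoh.IsFiniteLocallyConstant F) (ζ : EtCoh.H Y F 1) :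
    ∃ (Y' : Scheme.{u}) (g : Y' ⟶ Y), IsFinite g ∧ Etale g ∧ Surjective g ∧
      ∀ [PreservesFiniteLimits (EtCoh.pull g)], EtCore.Hpull g F 1 ζ = 0 := by
  haveI : DiscreteTopology (_root_.ConnectedComponents Y) := inferInstance
  let O : _root_.ConnectedComponents Y → Y.Opens := fun c =>
    ⟨ConnectedComponents.mk ⁻¹' {c}, (isOpen_discrete _).preimage ConnectedComponents.continuous_coe⟩
  have hcl : ∀ c, IsClosed (O c : Set Y) := fun c =>
    (isClosed_discrete ({c} : Set (_root_.ConnectedComponents Y))).preimage ConnectedComponents.continuous_coe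
  have hne : ∀ c, ConnectedSpace (O c : Scheme.{u}) := fun c => by
    obtain ⟨y, rfl⟩ := ConnectedComponents.surjective_coe c
    refine isConnected_iff_connectedSpace.1 ?_
    show _root_.IsConnected (ConnectedComponents.mk ⁻¹' {ConnectedComponents.mk y})
    rw [connectedComponents_preimage_singleton]
    exact isConnected_connectedComponent
  have key : ∀ c, ∃ (W : Scheme.{u}) (g : W ⟶ (O c : Scheme.{u})), IsFinite g ∧ Etale g ∧ Surjective g ∧
      ∀ [PreservesFiniteLimits (EtCoh.pull (g ≫ (O c).ι))], EtCore.Hpull (g ≫ (O c).ι) F 1 ζ = 0 := by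
    intro c
    haveI := hne c
    haveI := EtPullExact.pull_preservesFiniteLimits (O c).ι
    obtain ⟨V, M, iM, fM, hVf, hVs, -, -, ⟨e⟩⟩ := exists_finite_const _ (EtCons.isFLC_pull (O c).ι hF)
    let g₁ : V.left ⟶ (O c : Scheme.{u}) := V.hom
    haveI : Etale g₁ := V.prop
    haveI : IsFinite g₁ := hVf
    haveI : Surjective g₁ := hVs
    haveI := EtPullExact.pull_preservesFiniteLimits g₁
    obtain ⟨E, hE, hEs, hkill⟩ := exists_kill_H1 e (EtCore.Hpull g₁ _ 1 (EtCore.Hpull (O c).ι F 1 ζ))
    let g₂ : E.left ⟶ V.left := E.hom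
    haveI : Etale g₂ := E.prop
    haveI : IsFinite g₂ := hE
    haveI : Surjective g₂ := hEs
    refine ⟨E.left, g₂ ≫ g₁, inferInstance, inferInstance, inferInstance, ?_⟩
    intro _
    haveI := EtPullExact.pull_preservesFiniteLimits g₂
    haveI := EtPullExact.pull_preservesFiniteLimits (g₂ ≫ g₁)
    refine (EtMemRange.Hpull_eq_zero_iff (g₂ ≫ g₁) (O c).ι _ rfl F 1 ζ).1 ?_
    exact (EtMemRange.Hpull_eq_zero_iff g₂ g₁ _ rfl _ 1 _).1 hkill
  choose W g hgf hge hgs hk using key
  let Z : Scheme.{u} := ∐ W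
  let gZ : Z ⟶ Y := Sigma.desc fun c => g c ≫ (O c).ι
  haveI : ∀ c, IsClosedImmersion (O c).ι := fun c => IsClosedImmersion.of_isPreimmersion _ (by
    rw [Scheme.Opens.range_ι]; exact hcl c)
  let T : _root_.ConnectedComponents Y → FEt.Cat Y := fun c => MorphismProperty.Over.mk ⊤ (g c ≫ (O c).ι)
    (⟨inferInstance, inferInstance⟩ : FEt.prop.{u} (g c ≫ (O c).ι))
  haveI : IsFinite gZ := by
    let e := PreservesCoproduct.iso (FEtRank.totalSpace Y) T
    haveI : IsFinite (∐ T).hom := (∐ T).prop.1
    have he : gZ = e.inv ≫ (∐ T).hom := by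
      refine Sigma.hom_ext _ _ fun c => ?_
      rw [Sigma.ι_desc]
      simp only [e, PreservesCoproduct.inv_hom]
      exact ((ι_comp_sigmaComparison_assoc (FEtRank.totalSpace Y) T c _).trans
        (MorphismProperty.Over.w (Sigma.ι T c))).symm
    rw [he]
    infer_instance
  haveI : Etale gZ := IsZariskiLocalAtSource.sigmaDesc (P := @Etale) fun c => inferInstance
  haveI : Surjective gZ := ⟨fun y => by
    obtain ⟨w, hw⟩ := (hgs (ConnectedComponents.mk y)).surj ⟨y, rfl⟩
    refine ⟨Sigma.ι W _ w, ?_⟩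
    rw [← Scheme.Hom.comp_apply, Sigma.ι_desc, Scheme.Hom.comp_apply, hw]
    rfl⟩
  refine ⟨Z, gZ, inferInstance, inferInstance, inferInstance, ?_⟩
  intro _
  let P : _root_.ConnectedComponents Y → Z.Opens := fun c => gZ ⁻¹ᵁ O c
  obtain ⟨r⟩ := Finite.exists_equiv_fin (_root_.ConnectedComponents Y)
  refine eq_zero_of_partition P (fun i j hij x hi hj => hij ?_) (fun x => ⟨ConnectedComponents.mk (gZ x), rfl⟩) 0 _ _
    fun c => ?_
  · exact (show ConnectedComponents.mk (gZ x) = i from hi).symm.trans hj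
  · intro _
    have hrange : Set.range (Sigma.ι W c) = (P c : Set Z) := by
      ext x
      constructor
      · rintro ⟨w, rfl⟩
        show ConnectedComponents.mk (gZ (Sigma.ι W c w)) = c
        rw [← Scheme.Hom.comp_apply, Sigma.ι_desc, Scheme.Hom.comp_apply]
        exact (g c w).2
      · intro hx
        obtain ⟨c', w, rfl⟩ := (sigmaOpenCover W).exists_eq x
        obtain rfl : c' = c := by
          refine Eq.trans ?_ hx
          show c' = ConnectedComponents.mk (gZ (Sigma.ι W c' w))
          rw [← Scheme.Hom.comp_apply, Sigma.ι_desc, Scheme.Hom.comp_apply]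
          exact ((g c' w).2).symm
        exact ⟨w, rfl⟩
    let f : (P c : Scheme.{u}) ⟶ W c := IsOpenImmersion.lift (Sigma.ι W c) (P c).ι
      (by rw [Scheme.Opens.range_ι, hrange])
    have w : (P c).ι ≫ gZ = f ≫ g c ≫ (O c).ι := by
      rw [← IsOpenImmersion.lift_fac (Sigma.ι W c) (P c).ι (by rw [Scheme.Opens.range_ι, hrange]), Category.assoc,
        Sigma.ι_desc]
    haveI := EtPullExact.pull_preservesFiniteLimits ((P c).ι ≫ gZ)
    haveI := EtPullExact.pull_preservesFiniteLimits (g c ≫ (O c).ι)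
    refine (EtMemRange.Hpull_eq_zero_iff (P c).ι gZ _ rfl F 1 ζ).2 ?_
    exact EtMemRange.Hpull_comp_eq_zero f (g c ≫ (O c).ι) _ w.symm F 1 ζ (hk c)

end Groth.Agent.EtFLC
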