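import Groth.Agent.EtFLC.FinSplit
import Groth.Agent.EtCons.PullFLC
import Groth.Agent.EtH1PBC.Classes
import Groth.Agent.EtH1PBC.Torsor
import Groth.Agent.EtPBC.CdLeray
import Groth.Agent.EtPBC.ConstKilled
import Groth.Agent.EtPBC.ArtinSchreier
import Groth.Agent.EtMemRange.Main
import Groth.Agent.EtPBC.AffineCurveRed

/-!
# Killing cohomology of finite locally constant sheaves by finite étale covers
-/

set_option autoImplicit false
set_option backward.isDefEq.respectTransparency false
set_option backward.isDefEq.respectTransparency.types false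
set_option linter.auxLemma false
set_option linter.style.haveILetI false
set_option linter.unusedSectionVars false

universe u

open CategoryTheory CategoryTheory.Limits CategoryTheory.Abelian AlgebraicGeometry Opposite

noncomputable section

namespace Groth.Agent.EtFLC

attribute [local instance 100000] EtCoh.H._proof_1 EtMV.hext
attribute [local instance 200000] EtMV.hextAb

variable {X : Scheme.{u}}

/-- Degree one classes with coefficients in a finite constant group die on a finite étale cover. -/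
theorem exists_kill_H1 {M : Type} [AddCommGroup M] [Finite M] {G : EtCoh.Ab X} (e : EtCoh.const X M ≅ G)
    (x : EtCoh.H X G 1) :
    ∃ E : X.Etale, IsFinite E.hom ∧ Surjective E.hom ∧
      ∀ [PreservesFiniteLimits (EtCoh.pull E.hom)], EtCore.Hpull E.hom G 1 x = 0 := by
  obtain ⟨ψ, rfl⟩ := EtH1PBC.exists_cls G x
  have hS := EtMV.injSeq_shortExact G
  obtain ⟨E, t, hE, hEs, ht⟩ := EtH1PBC.exists_finite_lift hS e (EtMV.κ ψ)
  refine ⟨E, hE, hEs, ?_⟩
  intro _
  erw [EtH1PBC.Hpull_cls E.hom hS ψ, EtH1PBC.cls_eq_zero_iff_κ]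
  let δ : EtCoh.top E.left ⟶ (EtCoh.bc E.hom).obj E :=
    MorphismProperty.Over.homMk (pullback.lift (𝟙 _) (𝟙 _) rfl) (pullback.lift_snd _ _ _)
  refine ⟨EtMV.r E.hom δ (EtMV.injSeq G).X₂ t, ?_⟩
  refine (EtMV.r_natural E.hom δ (EtMV.injSeq G).g t).trans ?_
  rw [ht, EtH1PBC.κ_pullHom]
  exact EtMV.r_res E.hom (EtMV.δtop E.hom) δ (EtH0Pair.toTopX E) EtMV.thin_top _ _

/-- constant finite `p`-groups from `ℤ/p` -/
theorem subsingleton_H_const_pgroup (p : ℕ) [hp : Fact p.Prime] (q : ℕ)
    (h : Subsingleton (EtCoh.H X (EtCoh.const X (ZMod p)) q)) :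
    ∀ (n : ℕ) (M : Type) [AddCommGroup M] [Finite M], Nat.card M = n → ∀ k : ℕ, (∀ m : M, p ^ k • m = 0) →
      Subsingleton (EtCoh.H X (EtCoh.const X M) q) := by
  intro n
  induction n using Nat.strong_induction_on with
  | _ n ih =>
    intro M _ _ hn k hk
    rcases subsingleton_or_nontrivial M with hM | hM
    · haveI : Subsingleton ↑(AddCommGrpCat.of (ULift.{u + 1} M)) := inferInstanceAs (Subsingleton (ULift.{u + 1} M))
      exact EtPBC.subsingleton_H_of_isZero
        (Functor.map_isZero (EtPBC.cstF X) (AddCommGrpCat.isZero_of_subsingleton _)) q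
    obtain ⟨a, ha⟩ := exists_ne (0 : M)
    obtain ⟨b, hb, hpb⟩ : ∃ b : M, b ≠ 0 ∧ p • b = 0 := by
      classical
      have hex : ∃ j, p ^ j • a = 0 := ⟨k, hk a⟩
      obtain ⟨j, hj⟩ : ∃ j, Nat.find hex = j + 1 := Nat.exists_eq_succ_of_ne_zero fun h0 => by
        have := Nat.find_spec hex
        rw [h0, pow_zero, one_smul] at this
        exact ha this
      refine ⟨p ^ j • a, Nat.find_min hex (by omega), ?_⟩
      rw [smul_smul, ← pow_succ', ← hj]
      exact Nat.find_spec hex
    let f : ZMod p →+ M := ZMod.lift p ⟨zmultiplesHom _ b, by rw [zmultiplesHom_apply, natCast_zsmul]; exact hpb⟩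
    have hf : Function.Injective f := by
      refine (ZMod.lift_injective _).2 fun i hi => ?_
      rw [zmultiplesHom_apply] at hi
      rw [ZMod.intCast_zmod_eq_zero_iff_dvd, ← addOrderOf_eq_prime hpb hb]
      exact addOrderOf_dvd_iff_zsmul_eq_zero.2 hi
    let Q := M ⧸ f.range
    let π : M →+ Q := QuotientAddGroup.mk' f.range
    have hπ : Function.Surjective π := QuotientAddGroup.mk'_surjective _
    haveI : Finite Q := Finite.of_surjective _ hπ
    have hlt : Nat.card Q < n := by
      rw [← hn]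
      by_contra hle
      have hb' := hπ.bijective_of_nat_card_le (not_lt.1 hle)
      refine hb (hb'.1 ?_)
      rw [map_zero]
      exact (QuotientAddGroup.eq_zero_iff b).2 ⟨1, by
        exact (congrArg f (Int.cast_one (R := ZMod p)).symm).trans ((ZMod.lift_coe _ _ _).trans (one_zsmul b))⟩
    have hQ := ih _ hlt Q rfl k (fun m => by
      obtain ⟨m, rfl⟩ := hπ m
      rw [← map_nsmul, hk, map_zero])
    let S : ShortComplex AddCommGrpCat.{u + 1} := ShortComplex.mk
      (X₁ := AddCommGrpCat.of (ULift.{u + 1} (ZMod p))) (X₂ := AddCommGrpCat.of (ULift.{u + 1} M))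
      (X₃ := AddCommGrpCat.of (ULift.{u + 1} Q))
      (AddCommGrpCat.ofHom (AddEquiv.ulift.symm.toAddMonoidHom.comp (f.comp AddEquiv.ulift.toAddMonoidHom)))
      (AddCommGrpCat.ofHom (AddEquiv.ulift.symm.toAddMonoidHom.comp (π.comp AddEquiv.ulift.toAddMonoidHom)))
      (by
        ext x
        exact (QuotientAddGroup.eq_zero_iff _).2 ⟨x.down, rfl⟩)
    have hS : S.ShortExact :=
      { exact := (ShortComplex.ab_exact_iff _).2 fun x hx => by
          obtain ⟨z, hz⟩ := (QuotientAddGroup.eq_zero_iff (show ULift.{u + 1} M from x).down).1 (congrArg ULift.down hx)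
          exact ⟨ULift.up z, ULift.down_injective hz⟩
        mono_f := (AddCommGrpCat.mono_iff_injective _).2 fun a b h => ULift.down_injective (hf (congrArg ULift.down h))
        epi_g := (AddCommGrpCat.epi_iff_surjective _).2 fun y => by
          obtain ⟨z, hz⟩ := hπ y.down
          exact ⟨ULift.up z, ULift.down_injective hz⟩ }
    exact EtPBC.subsingleton_H_X₂ (EtPBC.shortExact_map (EtPBC.cstF X) hS) q h hQ

/-- A finite locally constant sheaf on a connected scheme is constant on a finite étale cover. -/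
theorem exists_finite_const [ConnectedSpace X] (F : EtCoh.Ab X) (hF : EtCoh.IsFiniteLocallyConstant F) :
    ∃ (W : X.Etale) (M : Type) (_ : AddCommGroup M) (_ : Finite M),
      IsFinite W.hom ∧ Surjective W.hom ∧ ConnectedSpace W.left ∧
      (∀ n : ℕ, EtCoh.KilledBy n F → ∀ m : M, n • m = 0) ∧
      Nonempty (EtCoh.const W.left M ≅ (EtCoh.pull W.hom).obj F) := by
  obtain ⟨W, M, iM, fM, σ, hWf, hWs, hWc, hσ⟩ := exists_finite_triv F hF
  haveI : Etale W.hom := W.prop
  haveI := EtMV.jcont_etale W.hom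
  obtain ⟨e⟩ := EtCons.nonempty_restr_iso_of_isTriv F W σ hσ
  refine ⟨W, M, iM, fM, hWf, hWs, hWc, fun n hn m => ?_,
    ⟨(((EtPushStalk.restrPullIso W.hom).app F).symm ≪≫ e).symm⟩⟩
  refine (hσ.injective (𝟙 W) (Classical.arbitrary W.left)) ?_
  rw [map_nsmul, map_zero]
  exact hn W _

/-- A connected affine scheme of characteristic `p` is a `K(π,1)` for `p`-torsion coefficients. -/
theorem exists_kill_charP (p : ℕ) [Fact p.Prime] [IsAffine X] [ConnectedSpace X] [CharP Γ(X, ⊤) p]
    (F : EtCoh.Ab X) (hF : EtCoh.IsFiniteLocallyConstant F) (htor : ∃ h : ℕ, EtCoh.KilledBy (p ^ h) F)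
    (q : ℕ) (hq : 0 < q) (ζ : EtCoh.H X F q) :
    ∃ (X' : Scheme.{u}) (g : X' ⟶ X), IsFinite g ∧ Etale g ∧ Surjective g ∧
      ∀ [PreservesFiniteLimits (EtCoh.pull g)], EtCore.Hpull g F q ζ = 0 := by
  obtain ⟨W, M, iM, fM, hWf, hWs, -, hk, ⟨e⟩⟩ := exists_finite_const F hF
  let g : W.left ⟶ X := W.hom
  haveI : Etale g := W.prop
  haveI : IsFinite g := hWf
  haveI : Surjective g := hWs
  haveI := EtPullExact.pull_preservesFiniteLimits g
  haveI : IsAffine W.left := isAffine_of_isAffineHom g
  have h0 : (p : Γ(W.left, ⊤)) = 0 := by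
    rw [← map_natCast g.appTop.hom, CharP.cast_eq_zero, map_zero]
  obtain ⟨h, hh⟩ := htor
  rcases Nat.lt_or_ge q 2 with h1 | h2
  · obtain rfl : q = 1 := by omega
    obtain ⟨E, hE, hEs, hkill⟩ := exists_kill_H1 e (EtCore.Hpull g F 1 ζ)
    let g' : E.left ⟶ W.left := E.hom
    haveI : Etale g' := E.prop
    haveI : IsFinite g' := hE
    haveI : Surjective g' := hEs
    refine ⟨E.left, g' ≫ g, inferInstance, inferInstance, inferInstance, ?_⟩
    intro _
    haveI := EtPullExact.pull_preservesFiniteLimits g'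
    exact (EtMemRange.Hpull_eq_zero_iff g' g _ rfl F 1 ζ).1 hkill
  · have hs : Subsingleton (EtCoh.H W.left ((EtCoh.pull g).obj F) q) :=
      EtPBC.subsingleton_H_of_iso e q (subsingleton_H_const_pgroup p q
        (EtPBC.subsingleton_H_zmod_of_isAffine p h0 q h2) _ M rfl h (hk _ hh))
    exact ⟨W.left, g, hWf, W.prop, hWs, fun {_} => @Subsingleton.elim _ hs _ _⟩

end Groth.Agent.EtFLC
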