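import Groth.Agent.EtFLC.Serre
import Groth.Agent.FEtRank.Split
import Groth.Agent.EtIntegral.Push

/-!
Pushforward along finite etale morphisms preserves finite locally constant sheaves.
-/

set_option autoImplicit false
set_option backward.isDefEq.respectTransparency false

universe u

open CategoryTheory CategoryTheory.Limits AlgebraicGeometry Opposite

noncomputable section

namespace Groth.Agent.EtFLC

variable {X Y : Scheme.{u}} (f : X ⟶ Y) {V : Y.Etale}

section Piece

variable (a : V.left ⟶ X) (ha : a ≫ f = V.hom) [AlgebraicGeometry.Etale a]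

/-- `W` seen as an object over `X` through `a`. -/
def piece {W : Y.Etale} (g : W ⟶ V) : X.Etale :=
  haveI := Groth.Agent.EtSect.etale_left g
  Scheme.Etale.mk (g.left ≫ a)

def pieceMap {W : Y.Etale} (g : W ⟶ V) : piece a g ⟶ (EtCoh.bc f).obj W :=
  MorphismProperty.Over.homMk
    (pullback.lift (𝟙 W.left) (g.left ≫ a) (by
      exact (Category.id_comp _).trans ((MorphismProperty.Over.w g).symm.trans
        ((congrArg (g.left ≫ ·) ha).symm.trans (Category.assoc _ _ _).symm))))
    (pullback.lift_snd _ _ _)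

omit [AlgebraicGeometry.Etale a] in
theorem id_left (W : Y.Etale) : (𝟙 W : W ⟶ W).left = 𝟙 W.left := rfl

theorem pieceMap_fst {W : Y.Etale} (g : W ⟶ V) :
    (pieceMap f a ha g).left ≫ pullback.fst W.hom f = 𝟙 W.left :=
  pullback.lift_fst _ _ _

theorem pieceMap_snd {W : Y.Etale} (g : W ⟶ V) :
    (pieceMap f a ha g).left ≫ pullback.snd W.hom f = g.left ≫ a :=
  pullback.lift_snd _ _ _

theorem bcMap_fst {W W' : Y.Etale} (k : W' ⟶ W) :
    ((EtCoh.bc f).map k).left ≫ pullback.fst W.hom f = pullback.fst W'.hom f ≫ k.left :=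
  pullback.lift_fst _ _ _

theorem bcMap_snd {W W' : Y.Etale} (k : W' ⟶ W) :
    ((EtCoh.bc f).map k).left ≫ pullback.snd W.hom f = pullback.snd W'.hom f :=
  pullback.lift_snd _ _ _

theorem comp_bcMap_fst {T : Scheme.{u}} {W W' : Y.Etale} (k : W' ⟶ W) (q : T ⟶ pullback W'.hom f) :
    (q ≫ ((EtCoh.bc f).map k).left) ≫ pullback.fst W.hom f = (q ≫ pullback.fst W'.hom f) ≫ k.left :=
  (Category.assoc _ _ _).trans ((congrArg (q ≫ ·) (bcMap_fst f k)).trans (Category.assoc _ _ _).symm)

theorem comp_bcMap_snd {T : Scheme.{u}} {W W' : Y.Etale} (k : W' ⟶ W) (q : T ⟶ pullback W'.hom f) :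
    (q ≫ ((EtCoh.bc f).map k).left) ≫ pullback.snd W.hom f = q ≫ pullback.snd W'.hom f :=
  (Category.assoc _ _ _).trans (congrArg (q ≫ ·) (bcMap_snd f k))

theorem comp_pieceMap_fst {T : Scheme.{u}} {W : Y.Etale} (g : W ⟶ V) (q : T ⟶ W.left) :
    (q ≫ (pieceMap f a ha g).left) ≫ pullback.fst W.hom f = q :=
  (Category.assoc _ _ _).trans ((congrArg (q ≫ ·) (pieceMap_fst f a ha g)).trans (Category.comp_id _))

theorem comp_pieceMap_snd {T : Scheme.{u}} {W : Y.Etale} (g : W ⟶ V) (q : T ⟶ W.left) :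
    (q ≫ (pieceMap f a ha g).left) ≫ pullback.snd W.hom f = q ≫ g.left ≫ a :=
  (Category.assoc _ _ _).trans (congrArg (q ≫ ·) (pieceMap_snd f a ha g))

def pieceRes {W W' : Y.Etale} (g : W ⟶ V) (k : W' ⟶ W) : piece a (k ≫ g) ⟶ piece a g :=
  MorphismProperty.Over.homMk k.left (Category.assoc _ _ _).symm

theorem pieceRes_map {W W' : Y.Etale} (g : W ⟶ V) (k : W' ⟶ W) :
    pieceMap f a ha (k ≫ g) ≫ (EtCoh.bc f).map k = pieceRes a g k ≫ pieceMap f a ha g := by
  refine MorphismProperty.Over.Hom.ext (pullback.hom_ext ?_ ?_)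
  · exact ((comp_bcMap_fst f k _).trans ((congrArg (· ≫ k.left) (pieceMap_fst f a ha _)).trans
      (Category.id_comp _))).trans (comp_pieceMap_fst f a ha g k.left).symm
  · exact ((comp_bcMap_snd f k _).trans ((pieceMap_snd f a ha _).trans (Category.assoc _ _ _))).trans
      (comp_pieceMap_snd f a ha g k.left).symm

def toBase {W : Y.Etale} (g : W ⟶ V) : piece a g ⟶ piece a (𝟙 V) :=
  MorphismProperty.Over.homMk g.left (congrArg (g.left ≫ ·) (Category.id_comp a))

theorem pieceMap_toBase {W : Y.Etale} (g : W ⟶ V) :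
    pieceMap f a ha g ≫ (EtCoh.bc f).map g = toBase a g ≫ pieceMap f a ha (𝟙 V) :=
  MorphismProperty.Over.Hom.ext (pullback.hom_ext
    (((comp_bcMap_fst f g _).trans ((congrArg (· ≫ g.left) (pieceMap_fst f a ha g)).trans
      (Category.id_comp _))).trans (comp_pieceMap_fst f a ha (𝟙 V) g.left).symm)
    (((comp_bcMap_snd f g _).trans (pieceMap_snd f a ha g)).trans
      ((comp_pieceMap_snd f a ha (𝟙 V) g.left).trans (congrArg (g.left ≫ ·) (Category.id_comp a))).symm))

instance mono_pieceMap {W : Y.Etale} (g : W ⟶ V) : Mono (pieceMap f a ha g).left := by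
  haveI : IsSplitMono (pieceMap f a ha g).left :=
    ⟨⟨⟨pullback.fst W.hom f, pullback.lift_fst _ _ _⟩⟩⟩
  infer_instance

theorem range_pieceMap {W : Y.Etale} (g : W ⟶ V) :
    Set.range (pieceMap f a ha g).left =
      ((EtCoh.bc f).map g).left ⁻¹' Set.range (pieceMap f a ha (𝟙 V)).left := by
  have hpb : IsPullback (pieceMap f a ha g).left g.left ((EtCoh.bc f).map g).left
      (pieceMap f a ha (𝟙 V)).left := by
    have hid : ∀ {T : Scheme.{u}} (q : T ⟶ V.left), q ≫ (𝟙 V : V ⟶ V).left ≫ a = q ≫ a := fun q =>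
      congrArg (q ≫ ·) (Category.id_comp a)
    have hw : (pieceMap f a ha g).left ≫ ((EtCoh.bc f).map g).left = g.left ≫ (pieceMap f a ha (𝟙 V)).left :=
      pullback.hom_ext
        (((comp_bcMap_fst f g _).trans ((congrArg (· ≫ g.left) (pieceMap_fst f a ha g)).trans
          (Category.id_comp _))).trans (comp_pieceMap_fst f a ha (𝟙 V) g.left).symm)
        (((comp_bcMap_snd f g _).trans (pieceMap_snd f a ha g)).trans
          ((comp_pieceMap_snd f a ha (𝟙 V) g.left).trans (hid g.left)).symm)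
    refine ⟨⟨hw⟩, ⟨PullbackCone.IsLimit.mk hw (fun s => s.fst ≫ pullback.fst W.hom f) (fun s => ?_) (fun s => ?_)
      (fun s m h1 h2 => ?_)⟩⟩
    · have e1 : (s.fst ≫ pullback.fst W.hom f) ≫ g.left = s.snd :=
        ((comp_bcMap_fst f g s.fst).symm.trans (congrArg (· ≫ pullback.fst V.hom f) s.condition)).trans
          (comp_pieceMap_fst f a ha (𝟙 V) s.snd)
      have e2 : s.fst ≫ pullback.snd W.hom f = s.snd ≫ a :=
        ((comp_bcMap_snd f g s.fst).symm.trans (congrArg (· ≫ pullback.snd V.hom f) s.condition)).trans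
          ((comp_pieceMap_snd f a ha (𝟙 V) s.snd).trans (hid s.snd))
      exact pullback.hom_ext (comp_pieceMap_fst f a ha g _)
        (((comp_pieceMap_snd f a ha g _).trans (Category.assoc _ _ _).symm).trans
          ((congrArg (· ≫ a) e1).trans e2.symm))
    · exact ((comp_bcMap_fst f g s.fst).symm.trans (congrArg (· ≫ pullback.fst V.hom f) s.condition)).trans
          (comp_pieceMap_fst f a ha (𝟙 V) s.snd)
    · exact (comp_pieceMap_fst f a ha g m).symm.trans (congrArg (· ≫ pullback.fst W.hom f) h1)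
  have hi := hpb.isoPullback_hom_fst
  rw [← hi, Scheme.Hom.comp_base, TopCat.coe_comp, Set.range_comp,
    Set.range_eq_univ.2 (show Function.Surjective hpb.isoPullback.hom from hpb.isoPullback.hom.homeomorph.surjective), Set.image_univ, Scheme.Pullback.range_fst]
  rfl

end Piece

/-- Pushforward preserves constancy along a split family. -/
theorem isTriv_push (F : EtCoh.Ab X) {ι : Type} [Finite ι] (a : ι → (V.left ⟶ X)) (ha : ∀ i, a i ≫ f = V.hom)
    [∀ i, AlgebraicGeometry.Etale (a i)]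
    (hd : ∀ i j, i ≠ j → ∀ x y, (pieceMap f (a i) (ha i) (𝟙 V)).left x ≠ (pieceMap f (a j) (ha j) (𝟙 V)).left y)
    (hc : ∀ p, ∃ i, p ∈ Set.range (pieceMap f (a i) (ha i) (𝟙 V)).left)
    (M : ι → Type) [∀ i, AddCommGroup (M i)] (σ : ∀ i, M i →+ EtCoh.sect F (piece (a i) (𝟙 V)))
    (hσ : ∀ i, IsTriv F (piece (a i) (𝟙 V)) (σ i)) :
    ∃ τ : (∀ i, M i) →+ EtCoh.sect ((EtCoh.push f).obj F) V, IsTriv ((EtCoh.push f).obj F) V τ := by
  classical
  cases nonempty_fintype ι
  have hd' : ∀ {W : Y.Etale} (g : W ⟶ V) i j, i ≠ j → ∀ x y,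
      (pieceMap f (a i) (ha i) g).left x ≠ (pieceMap f (a j) (ha j) g).left y := by
    intro W g i j hij x y h
    have hx : (pieceMap f (a i) (ha i) g).left x ∈ Set.range (pieceMap f (a i) (ha i) g).left := ⟨x, rfl⟩
    have hy : (pieceMap f (a i) (ha i) g).left x ∈ Set.range (pieceMap f (a j) (ha j) g).left := ⟨y, h.symm⟩
    rw [range_pieceMap] at hx hy
    obtain ⟨x', hx'⟩ := hx
    obtain ⟨y', hy'⟩ := hy
    exact hd i j hij x' y' (hx'.trans hy'.symm)
  have hc' : ∀ {W : Y.Etale} (g : W ⟶ V) p, ∃ i, p ∈ Set.range (pieceMap f (a i) (ha i) g).left := by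
    intro W g p
    obtain ⟨i, hi⟩ := hc (((EtCoh.bc f).map g).left p)
    exact ⟨i, by rw [range_pieceMap]; exact hi⟩
  have ext' : ∀ {W : Y.Etale} (g : W ⟶ V) (s t : EtCoh.sect F ((EtCoh.bc f).obj W)),
      (∀ i, res F (pieceMap f (a i) (ha i) g) s = res F (pieceMap f (a i) (ha i) g) t) → s = t := by
    intro W g s t h
    refine sect_ext F fun p => ?_
    obtain ⟨i, x, hx⟩ := hc' g p
    exact ⟨_, _, x, hx, h i⟩
  let toV : ∀ {W : Y.Etale} (g : W ⟶ V) (i : ι), piece (a i) g ⟶ piece (a i) (𝟙 V) := fun g i =>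
    toBase (a i) g
  have hex : ∀ m : ∀ i, M i, ∃ s : EtCoh.sect F ((EtCoh.bc f).obj V),
      ∀ i, res F (pieceMap f (a i) (ha i) (𝟙 V)) s = σ i (m i) := fun m => by
    obtain ⟨s, hs⟩ := Groth.Agent.EtIntegral.exists_amalg_disjoint F (ι := ULift.{u} ι)
      (fun i => piece (a i.down) (𝟙 V)) (fun i => pieceMap f (a i.down) (ha i.down) (𝟙 V))
      (fun i j hij => hd i.down j.down fun h => hij (ULift.ext _ _ h))
      (fun p => (hc p).elim fun i hi => ⟨⟨i⟩, hi⟩) (fun i => σ i.down (m i.down))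
    exact ⟨s, fun i => hs ⟨i⟩⟩
  choose t ht using hex
  let τ : (∀ i, M i) →+ EtCoh.sect ((EtCoh.push f).obj F) V :=
    AddMonoidHom.mk' t fun p q => ext' (𝟙 V) _ _ fun i => by rw [map_add, ht, ht, ht, Pi.add_apply, map_add]
  have hτ : ∀ {W : Y.Etale} (g : W ⟶ V) (m : ∀ i, M i) (i : ι),
      res F (pieceMap f (a i) (ha i) g) (res F ((EtCoh.bc f).map g) (t m)) = res F (toV g i) (σ i (m i)) := by
    intro W g m i
    rw [res_res, ← ht m i, res_res, pieceMap_toBase]
  refine ⟨τ, ⟨fun {W} g s w => ?_, fun {W} g m hm w => funext fun i => ?_⟩⟩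
  · obtain ⟨W', k, w', hw', hP⟩ := exists_refine Finset.univ w
      (fun i W' k => ∃ m : M i, res F (pieceMap f (a i) (ha i) (k ≫ g)) (res F ((EtCoh.bc f).map k) s) =
        res F (toV (k ≫ g) i) (σ i m))
      (fun i W' k ⟨m, hm⟩ W'' l => ⟨m, by
        have h1 := congrArg (res F (pieceRes (a i) (k ≫ g) l)) hm
        rw [res_res, res_res, res_res] at h1
        rw [res_res]
        refine (congrArg (fun φ => res F φ s) ?_).trans (h1.trans (congrArg (fun φ => res F φ (σ i m)) ?_))
        · rw [Functor.map_comp, ← Category.assoc]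
          refine ((congrArg (· ≫ (EtCoh.bc f).map k) ?_).trans (Category.assoc _ _ _))
          exact pieceRes_map f (a i) (ha i) (k ≫ g) l
        · exact MorphismProperty.Over.Hom.ext (Category.assoc _ _ _).symm⟩)
      (fun i _ W' k v => by
        obtain ⟨H, l, h, m, hh, hm⟩ := (hσ i).surj (toV (k ≫ g) i)
          (res F (pieceMap f (a i) (ha i) (k ≫ g)) (res F ((EtCoh.bc f).map k) s)) v
        haveI := Groth.Agent.EtSect.etale_left l
        haveI : Etale W'.hom := W'.prop
        haveI : Etale (l.left ≫ W'.hom) := by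
          haveI : Etale (l.left : H.left ⟶ W'.left) := Groth.Agent.EtSect.etale_left l
          infer_instance
        let H' : Y.Etale := Scheme.Etale.mk (l.left ≫ W'.hom)
        let l' : H' ⟶ W' := MorphismProperty.Over.homMk l.left rfl
        have hl : (l.left : H.left ⟶ W'.left) ≫ (k ≫ g).left ≫ a i = H.hom := MorphismProperty.Over.w l
        let c : piece (a i) (l' ≫ k ≫ g) ⟶ H := MorphismProperty.Over.homMk (𝟙 H.left) (by
          exact (Category.id_comp _).trans (hl.symm.trans (Category.assoc _ _ _).symm))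
        refine ⟨H', l', h, hh, m, ?_⟩
        have h1 := congrArg (res F c) hm
        rw [res_res, res_res, res_res, res_res] at h1
        rw [res_res]
        refine (congrArg (fun φ => res F φ s) ?_).trans (h1.trans (congrArg (fun φ => res F φ (σ i m)) ?_))
        · have hbase : pieceMap f (a i) (ha i) (l' ≫ k ≫ g) ≫ (EtCoh.bc f).map l' =
              (c ≫ l) ≫ pieceMap f (a i) (ha i) (k ≫ g) := by
            rw [pieceRes_map]
            exact congrArg (· ≫ pieceMap f (a i) (ha i) (k ≫ g))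
              (MorphismProperty.Over.Hom.ext (Category.id_comp l.left).symm)
          rw [Functor.map_comp, ← Category.assoc]
          exact (congrArg (· ≫ (EtCoh.bc f).map k) hbase).trans (by simp only [Category.assoc])
        · exact MorphismProperty.Over.Hom.ext ((congrArg (· ≫ (k ≫ g).left) (Category.id_comp l.left)).trans rfl).symm)
    choose m hm using fun i => hP i (Finset.mem_univ i)
    refine ⟨W', k, w', m, hw', ext' (k ≫ g) _ _ fun i => ?_⟩
    exact (hm i).trans (hτ (k ≫ g) m i).symm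
  · refine (hσ i).inj (toV g i) (m i) ?_ w
    rw [← hτ]
    exact (congrArg (res F _) hm).trans (map_zero _)

end Groth.Agent.EtFLC
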